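/-
Eigenvalue multisets of symplectic maps: orbits under a power map and inversion.
-/
import Mathlib

set_option autoImplicit false
set_option linter.all false

namespace Cfsg.Agent.EvenSymp

open Finset

/-- The order of a cyclic torus: `q^e + 1` or `q^e - 1`. -/
def torVal (q : ℕ) : ℕ × Bool → ℕ
  | (e, true) => q ^ e + 1
  | (e, false) => q ^ e - 1

/-- The maximal orders of tori of rank at most `r`. -/
def torList (q : ℕ) : ℕ → List ℕ
  | 0 => [1]
  | 1 => [q + 1, q - 1]
  | 2 => [q ^ 2 + 1, q ^ 2 - 1]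
  | 3 => [q ^ 3 + 1, q ^ 3 - 1, (q ^ 2 + 1) * (q + 1), (q ^ 2 + 1) * (q - 1), q ^ 2 - 1]
  | _ => [q ^ 4 + 1, q ^ 4 - 1, (q ^ 3 + 1) * (q - 1), (q ^ 3 - 1) * (q + 1)]

theorem dvd_facts (q : ℕ) (hq : 1 ≤ q) :
    q + 1 ∣ q ^ 2 - 1 ∧ q - 1 ∣ q ^ 2 - 1 ∧ q ^ 2 + 1 ∣ q ^ 4 - 1 ∧ q ^ 2 - 1 ∣ q ^ 4 - 1 ∧
      q + 1 ∣ q ^ 3 + 1 ∧ q - 1 ∣ q ^ 3 - 1 := by
  obtain ⟨t, rfl⟩ : ∃ t, q = t + 1 := ⟨q - 1, by omega⟩
  refine ⟨⟨t, ?_⟩, ⟨t + 2, ?_⟩, ⟨(t + 1) ^ 2 - 1, ?_⟩, ⟨(t + 1) ^ 2 + 1, ?_⟩, ⟨t ^ 2 + t + 1, by ring⟩, ⟨(t + 1) ^ 2 + (t + 1) + 1, ?_⟩⟩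
  · apply Nat.sub_eq_of_eq_add; ring
  · simp only [Nat.add_sub_cancel]; apply Nat.sub_eq_of_eq_add; ring
  · have : (t + 1) ^ 2 - 1 = t * (t + 2) := by apply Nat.sub_eq_of_eq_add; ring
    rw [this]; apply Nat.sub_eq_of_eq_add; ring
  · have : (t + 1) ^ 2 - 1 = t * (t + 2) := by apply Nat.sub_eq_of_eq_add; ring
    rw [this]; apply Nat.sub_eq_of_eq_add; ring
  · simp only [Nat.add_sub_cancel]; apply Nat.sub_eq_of_eq_add; ring

/-- Several tori of total rank at most `r` have their orders dividing one number of the list. -/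
theorem cover (q : ℕ) (hq : 1 ≤ q) {l : List (ℕ × Bool)} (hpos : ∀ x ∈ l, 1 ≤ x.1) {r : ℕ} (hr : r ≤ 4)
    (hs : (l.map Prod.fst).sum ≤ r) : ∃ X ∈ torList q r, ∀ x ∈ l, torVal q x ∣ X := by
  obtain ⟨h1, h2, h3, h4, h5, h6⟩ := dvd_facts q hq
  have hsplit : ∀ x ∈ l, (l.map Prod.fst).sum = x.1 + ((l.erase x).map Prod.fst).sum := by
    intro x hx
    rw [((List.perm_cons_erase hx).map Prod.fst).sum_eq, List.map_cons, List.sum_cons]
  have hle : ∀ x ∈ l, x.1 ≤ r := fun x hx => by have := hsplit x hx; omega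
  have htwo : ∀ x ∈ l, ∀ y ∈ l, y ≠ x → x.1 + y.1 ≤ r := by
    intro x hx y hy hne
    have hy' : y ∈ l.erase x := (List.mem_erase_of_ne hne).2 hy
    have := List.single_le_sum (l := (l.erase x).map Prod.fst) (fun _ _ => Nat.zero_le _) _ (List.mem_map_of_mem hy')
    have := hsplit x hx
    omega
  -- tori of rank one and two
  have hone : ∀ x ∈ l, x.1 = 1 → torVal q x ∣ q ^ 2 - 1 := by
    rintro ⟨e, b⟩ - he
    dsimp only at he; subst he
    cases b <;> simp only [torVal, pow_one] <;> assumption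
  have hsmall : ∀ x ∈ l, x.1 ≤ 2 → torVal q x ∣ q ^ 4 - 1 := by
    rintro ⟨e, b⟩ hx he
    dsimp only at he
    have := hpos _ hx
    dsimp only at this
    rcases (show e = 1 ∨ e = 2 by omega) with rfl | rfl
    · exact (hone _ hx rfl).trans h4
    · cases b <;> simp only [torVal] <;> assumption
  match r, hr with
  | 0, _ =>
    refine ⟨1, by simp [torList], fun x hx => ?_⟩
    have := hle x hx; have := hpos x hx; omega
  | 1, _ =>
    by_cases hb : ∃ b, (1, b) ∈ l
    · obtain ⟨b, hb⟩ := hb
      refine ⟨torVal q (1, b), by cases b <;> simp [torList, torVal], fun x hx => ?_⟩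
      by_cases hne : x = (1, b)
      · rw [hne]
      · have := htwo _ hb x hx hne; have := hpos x hx; omega
    · refine ⟨q + 1, by simp [torList], fun x hx => ?_⟩
      exact absurd ⟨x.2, by rwa [show (1, x.2) = x from Prod.ext (le_antisymm (hpos x hx) (hle x hx)) rfl]⟩ hb
  | 2, _ =>
    by_cases hb : ∃ b, (2, b) ∈ l
    · obtain ⟨b, hb⟩ := hb
      refine ⟨torVal q (2, b), by cases b <;> simp [torList, torVal], fun x hx => ?_⟩
      by_cases hne : x = (2, b)
      · rw [hne]
      · have := htwo _ hb x hx hne; have := hpos x hx; omega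
    · refine ⟨q ^ 2 - 1, by simp [torList], fun x hx => hone x hx ?_⟩
      by_contra h
      exact hb ⟨x.2, by rwa [show (2, x.2) = x from Prod.ext (by have := hpos x hx; have := hle x hx; show 2 = x.1; omega) rfl]⟩
  | 3, _ =>
    by_cases hb : ∃ b, (3, b) ∈ l
    · obtain ⟨b, hb⟩ := hb
      refine ⟨torVal q (3, b), by cases b <;> simp [torList, torVal], fun x hx => ?_⟩
      by_cases hne : x = (3, b)
      · rw [hne]
      · have := htwo _ hb x hx hne; have := hpos x hx; omega
    have hle2 : ∀ x ∈ l, x.1 ≤ 2 := fun x hx => by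
      by_contra h
      exact hb ⟨x.2, by rwa [show (3, x.2) = x from Prod.ext (by have := hle x hx; show 3 = x.1; omega) rfl]⟩
    by_cases hc : (2, true) ∈ l
    · by_cases hd : (1, true) ∈ l
      · refine ⟨(q ^ 2 + 1) * (q + 1), by simp [torList], fun x hx => ?_⟩
        by_cases hne : x = (2, true)
        · rw [hne]; exact dvd_mul_right _ _
        · have := htwo _ hc x hx hne
          by_cases hne' : x = (1, true)
          · rw [hne']; simp only [torVal, pow_one]; exact dvd_mul_left _ _
          · have := htwo _ hd x hx hne'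
            have hxp := hpos x hx
            exfalso
            have h3' : ((l.erase (2, true)).erase (1, true)) ≠ [] := List.ne_nil_of_mem
              ((List.mem_erase_of_ne hne').2 ((List.mem_erase_of_ne hne).2 hx))
            have e1 := hsplit _ hc
            have hd' : (1, true) ∈ l.erase (2, true) := (List.mem_erase_of_ne (by decide)).2 hd
            have e2 := ((List.perm_cons_erase hd').map Prod.fst).sum_eq
            rw [List.map_cons, List.sum_cons] at e2
            have := List.single_le_sum (l := ((l.erase (2, true)).erase (1, true)).map Prod.fst) (fun _ _ => Nat.zero_le _) _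
              (List.mem_map_of_mem ((List.mem_erase_of_ne hne').2 ((List.mem_erase_of_ne hne).2 hx)))
            dsimp only at e1 e2
            omega
      · refine ⟨(q ^ 2 + 1) * (q - 1), by simp [torList], fun x hx => ?_⟩
        by_cases hne : x = (2, true)
        · rw [hne]; exact dvd_mul_right _ _
        · have := htwo _ hc x hx hne
          have hxp := hpos x hx
          obtain ⟨e, b⟩ := x
          dsimp only at *
          obtain rfl : e = 1 := by omega
          cases b
          · simp only [torVal, pow_one]; exact dvd_mul_left _ _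
          · exact absurd hx hd
    · refine ⟨q ^ 2 - 1, by simp [torList], fun x hx => ?_⟩
      obtain ⟨e, b⟩ := x
      have := hpos _ hx; have := hle2 _ hx
      dsimp only at *
      rcases (show e = 1 ∨ e = 2 by omega) with rfl | rfl
      · exact hone _ hx rfl
      · cases b
        · exact dvd_rfl
        · exact absurd hx hc
  | 4, _ =>
    by_cases hb : ∃ b, (4, b) ∈ l
    · obtain ⟨b, hb⟩ := hb
      refine ⟨torVal q (4, b), by cases b <;> simp [torList, torVal], fun x hx => ?_⟩
      by_cases hne : x = (4, b)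
      · rw [hne]
      · have := htwo _ hb x hx hne; have := hpos x hx; omega
    by_cases hc : ∃ b, (3, b) ∈ l
    · obtain ⟨b, hc⟩ := hc
      refine ⟨if b then (q ^ 3 + 1) * (q - 1) else (q ^ 3 - 1) * (q + 1), by cases b <;> simp [torList], fun x hx => ?_⟩
      by_cases hne : x = (3, b)
      · rw [hne]; cases b <;> simp only [torVal, if_true, Bool.false_eq_true, if_false] <;> exact dvd_mul_right _ _
      · have := htwo _ hc x hx hne
        have hxp := hpos x hx
        obtain ⟨e, b'⟩ := x
        dsimp only at *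
        obtain rfl : e = 1 := by omega
        cases b <;> cases b' <;> simp only [torVal, pow_one, if_true, Bool.false_eq_true, if_false]
        · exact h6.trans (dvd_mul_right _ _)
        · exact dvd_mul_left _ _
        · exact dvd_mul_left _ _
        · exact h5.trans (dvd_mul_right _ _)
    · refine ⟨q ^ 4 - 1, by simp [torList], fun x hx => hsmall x hx ?_⟩
      by_contra h
      have := hle x hx
      rcases (show x.1 = 3 ∨ x.1 = 4 by omega) with e | e
      · exact hc ⟨x.2, by rwa [show (3, x.2) = x from Prod.ext e.symm rfl]⟩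
      · exact hb ⟨x.2, by rwa [show (4, x.2) = x from Prod.ext e.symm rfl]⟩

variable {K : Type*} [Field K] [CharP K 2] [DecidableEq K]

/-- A multiset stable under `x ↦ x^q` and inversion, avoiding the fixed point of inversion. -/
structure Stable (q : ℕ) (R : Multiset K) : Prop where
  pow : ∀ x, R.count (x ^ q) = R.count x
  inv : ∀ x, R.count x⁻¹ = R.count x
  ne : ∀ x ∈ R, x ≠ 0 ∧ x ≠ 1

theorem Stable.step {q : ℕ} {R : Multiset K} (hR : Stable q R) (hinj : Function.Injective fun x : K => x ^ q)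
    {x : K} (hx : x ∈ R) :
    ∃ (t : ℕ × Bool) (R' : Multiset K), 1 ≤ t.1 ∧ Stable q R' ∧ R'.card + 2 * t.1 * R.count x ≤ R.card ∧
      ∀ y ∈ R, y ^ torVal q t = 1 ∨ y ∈ R' := by
  classical
  have hqi : ∀ i : ℕ, Function.Injective fun y : K => y ^ q ^ i := by
    intro i
    induction i with
    | zero => intro a b h; simpa using h
    | succ i ih =>
      intro a b h
      refine ih (hinj ?_)
      show (a ^ q ^ i) ^ q = (b ^ q ^ i) ^ q
      rw [← pow_mul, ← pow_mul, ← pow_succ]; exact h
  have hcount : ∀ (i : ℕ) (y : K), R.count (y ^ q ^ i) = R.count y := by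
    intro i
    induction i with
    | zero => intro y; rw [pow_zero, pow_one]
    | succ i ih => intro y; rw [pow_succ, pow_mul, hR.pow, ih]
  -- the period
  have hper : ∃ f, 1 ≤ f ∧ x ^ q ^ f = x := by
    obtain ⟨i, j, hne, he⟩ : ∃ i j, i ≠ j ∧ x ^ q ^ i = x ^ q ^ j := by
      by_contra h
      push Not at h
      have hinj' : Function.Injective fun i : ℕ => (⟨x ^ q ^ i, Multiset.mem_toFinset.2
          (Multiset.count_pos.1 (by rw [hcount]; exact Multiset.count_pos.2 hx))⟩ : R.toFinset) :=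
        fun i j hij => by
          by_contra hne
          exact h i j hne (congrArg Subtype.val hij)
      exact not_finite_iff_infinite.2 (Infinite.of_injective _ hinj') inferInstance
    wlog hij : i < j generalizing i j
    · exact this j i hne.symm he.symm (by omega)
    refine ⟨j - i, by omega, hqi i ?_⟩
    show (x ^ q ^ (j - i)) ^ q ^ i = x ^ q ^ i
    rw [← pow_mul, ← pow_add, Nat.sub_add_cancel hij.le, he]
  let f := Nat.find hper
  obtain ⟨hf1, hfx⟩ : 1 ≤ f ∧ x ^ q ^ f = x := Nat.find_spec hper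
  have hfmin : ∀ i j, i < j → j < f → x ^ q ^ i ≠ x ^ q ^ j := fun i j hij hj he => by
    refine Nat.find_min hper (show j - i < f by omega) ⟨by omega, hqi i ?_⟩
    show (x ^ q ^ (j - i)) ^ q ^ i = x ^ q ^ i
    rw [← pow_mul, ← pow_add, Nat.sub_add_cancel hij.le, he]
  have hinjOn : Set.InjOn (fun i : ℕ => x ^ q ^ i) (Finset.range f : Finset ℕ) := by
    intro i hi j hj he
    simp only [Finset.coe_range, Set.mem_Iio] at hi hj
    rcases lt_trichotomy i j with h | h | h
    · exact absurd he (hfmin i j h hj)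
    · exact h
    · exact absurd he.symm (hfmin j i h hi)
  obtain ⟨hx0, hx1⟩ := hR.ne x hx
  let A : Finset K := (Finset.range f).image fun i => x ^ q ^ i
  have hA : A.card = f := by rw [Finset.card_image_of_injOn hinjOn, Finset.card_range]
  let O : Finset K := A ∪ A.image (·⁻¹)
  have hAq : ∀ y, y ∈ A → y ^ q ∈ A := by
    simp only [A, Finset.mem_image, Finset.mem_range]
    rintro _ ⟨i, hi, rfl⟩
    rcases (show i + 1 < f ∨ i + 1 = f by omega) with h | h
    · exact ⟨i + 1, h, by rw [← pow_mul, ← pow_succ]⟩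
    · exact ⟨0, hf1, by rw [← pow_mul, ← pow_succ, h, hfx, pow_zero, pow_one]⟩
  have hOq : ∀ y, y ∈ O → y ^ q ∈ O := by
    intro y hy
    rcases Finset.mem_union.1 hy with h | h
    · exact Finset.mem_union_left _ (hAq y h)
    · obtain ⟨z, hz, rfl⟩ := Finset.mem_image.1 h
      exact Finset.mem_union_right _ (Finset.mem_image.2 ⟨z ^ q, hAq z hz, (inv_pow z q).symm⟩)
  have hOq' : ∀ y, y ^ q ∈ O → y ∈ O := by
    intro y hy
    have heq : O.image (fun z => z ^ q) = O := Finset.eq_of_subset_of_card_le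
      (fun z hz => by obtain ⟨w, hw, rfl⟩ := Finset.mem_image.1 hz; exact hOq w hw)
      (by rw [Finset.card_image_of_injective _ hinj])
    rw [← heq] at hy
    obtain ⟨w, hw, hwy⟩ := Finset.mem_image.1 hy
    rwa [← hinj hwy]
  have hOinv : ∀ y, y⁻¹ ∈ O ↔ y ∈ O := by
    have h1 : ∀ y, y ∈ O → y⁻¹ ∈ O := by
      intro y hy
      rcases Finset.mem_union.1 hy with h | h
      · exact Finset.mem_union_right _ (Finset.mem_image.2 ⟨y, h, rfl⟩)
      · obtain ⟨z, hz, rfl⟩ := Finset.mem_image.1 h
        rw [inv_inv]; exact Finset.mem_union_left _ hz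
    exact fun y => ⟨fun h => by simpa using h1 _ h, h1 y⟩
  have hOc : ∀ y ∈ O, R.count y = R.count x := by
    intro y hy
    rcases Finset.mem_union.1 hy with h | h
    · obtain ⟨i, -, rfl⟩ := Finset.mem_image.1 h; exact hcount i x
    · obtain ⟨z, hz, rfl⟩ := Finset.mem_image.1 h
      obtain ⟨i, -, rfl⟩ := Finset.mem_image.1 hz
      rw [hR.inv, hcount]
  -- the type of the orbit
  obtain ⟨t, ht1, htc, htp⟩ : ∃ t : ℕ × Bool, 1 ≤ t.1 ∧ 2 * t.1 ≤ O.card ∧ x ^ torVal q t = 1 := by
    by_cases hj : ∃ j, j < f ∧ x ^ q ^ j = x⁻¹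
    · obtain ⟨j, hjf, hje⟩ := hj
      have hj0 : j ≠ 0 := by
        rintro rfl
        rw [pow_zero, pow_one] at hje
        have hxx : x * x = 1 := by
          have := congrArg (· * x) hje
          simpa [inv_mul_cancel₀ hx0] using this
        apply hx1
        have : (x - 1) ^ 2 = 0 := by
          have h2 : (2 : K) = 0 := CharTwo.two_eq_zero
          linear_combination hxx + (1 - x) * h2
        exact sub_eq_zero.1 (pow_eq_zero_iff two_ne_zero |>.1 this)
      have h2j : x ^ q ^ (2 * j) = x := by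
        rw [two_mul, pow_add, pow_mul, hje, inv_pow, hje, inv_inv]
      refine ⟨(j, true), by show 1 ≤ j; omega, ?_, ?_⟩
      · have h : 2 * j = f := by
          rcases lt_trichotomy (2 * j) f with h | h | h
          · exact absurd (by rw [h2j, pow_zero, pow_one]) (hfmin 0 (2 * j) (by omega) h)
          · exact h
          · refine absurd ?_ (hfmin 0 (2 * j - f) (by omega) (by omega))
            rw [pow_zero, pow_one]
            refine (hqi f ?_)
            show x ^ q ^ f = (x ^ q ^ (2 * j - f)) ^ q ^ f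
            rw [hfx, ← pow_mul, ← pow_add, Nat.sub_add_cancel h.le, h2j]
        show 2 * j ≤ O.card
        rw [h, ← hA]; exact Finset.card_le_card Finset.subset_union_left
      · show x ^ (q ^ j + 1) = 1
        rw [pow_succ, hje, inv_mul_cancel₀ hx0]
    · refine ⟨(f, false), hf1, ?_, ?_⟩
      · have hdis : Disjoint A (A.image (·⁻¹)) := by
          rw [Finset.disjoint_left]
          intro y hy hy'
          obtain ⟨z, hz, rfl⟩ := Finset.mem_image.1 hy'
          obtain ⟨i, hi, hie⟩ := Finset.mem_image.1 hy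
          obtain ⟨l, hl, rfl⟩ := Finset.mem_image.1 hz
          rw [Finset.mem_range] at hi hl
          refine hj ⟨(i + (f - l)) % f, Nat.mod_lt _ hf1, ?_⟩
          have hmod : ∀ a, x ^ q ^ (a % f) = x ^ q ^ a := by
            intro a
            induction a using Nat.strong_induction_on with
            | _ a ih =>
              by_cases ha : a < f
              · rw [Nat.mod_eq_of_lt ha]
              · rw [Nat.mod_eq_sub_mod (by omega), ih (a - f) (by omega)]
                conv_rhs => rw [show a = f + (a - f) by omega, pow_add, pow_mul, hfx]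
          rw [hmod, pow_add, pow_mul, hie, inv_pow, ← pow_mul, ← pow_add, Nat.add_sub_cancel' hl.le, hfx]
        show 2 * f ≤ O.card
        rw [Finset.card_union_of_disjoint hdis, hA, Finset.card_image_of_injective _ inv_injective, hA, two_mul]
      · show x ^ (q ^ f - 1) = 1
        have hqf : q ^ f ≠ 0 := fun h => hx1 (by rw [← hfx, h, pow_zero])
        refine mul_left_cancel₀ hx0 ?_
        rw [← pow_succ', Nat.sub_add_cancel (Nat.one_le_iff_ne_zero.2 hqf), hfx, mul_one]
  refine ⟨t, R.filter (· ∉ O), ht1, ⟨?_, ?_, fun y hy => hR.ne y (Multiset.mem_filter.1 hy).1⟩, ?_, ?_⟩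
  · intro y
    simp only [Multiset.count_filter]
    by_cases hy : y ∈ O
    · rw [if_neg (not_not.2 (hOq y hy)), if_neg (not_not.2 hy)]
    · rw [if_pos (fun h => hy (hOq' y h)), if_pos hy, hR.pow]
  · intro y
    simp only [Multiset.count_filter, hOinv, hR.inv]
  · have h1 : R.card = (R.filter (· ∉ O)).card + (R.filter (· ∈ O)).card := by
      rw [← Multiset.card_add, add_comm (R.filter _), Multiset.filter_add_not]
    have h2 : O.card * R.count x ≤ (R.filter (· ∈ O)).card := by
      calc O.card * R.count x = ∑ y ∈ O, R.count y := by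
            rw [Finset.sum_congr rfl hOc, Finset.sum_const, smul_eq_mul]
        _ = ∑ y ∈ O, (R.filter (· ∈ O)).count y :=
            Finset.sum_congr rfl fun y hy => by rw [Multiset.count_filter_of_pos hy]
        _ ≤ _ := le_of_eq (Multiset.sum_count_eq_card fun y hy => (Multiset.mem_filter.1 hy).2)
    have h3 := Nat.mul_le_mul_right (R.count x) htc
    omega
  · intro y hy
    by_cases hyO : y ∈ O
    · refine Or.inl ?_
      rcases Finset.mem_union.1 hyO with h | h
      · obtain ⟨i, -, rfl⟩ := Finset.mem_image.1 h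
        rw [← pow_mul, mul_comm, pow_mul, htp, one_pow]
      · obtain ⟨z, hz, rfl⟩ := Finset.mem_image.1 h
        obtain ⟨i, -, rfl⟩ := Finset.mem_image.1 hz
        rw [inv_pow, ← pow_mul, mul_comm, pow_mul, htp, one_pow, inv_one]
    · exact Or.inr (Multiset.mem_filter.2 ⟨hy, hyO⟩)

theorem Stable.split {q : ℕ} (hinj : Function.Injective fun x : K => x ^ q) : ∀ (n : ℕ) {R : Multiset K}, R.card ≤ n →
    Stable q R → ∃ l : List (ℕ × Bool), (∀ t ∈ l, 1 ≤ t.1) ∧ 2 * (l.map Prod.fst).sum ≤ R.card ∧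
      ∀ y ∈ R, ∃ t ∈ l, y ^ torVal q t = 1 := by
  intro n
  induction n with
  | zero =>
    intro R hn _
    obtain rfl := Multiset.card_eq_zero.1 (Nat.le_zero.1 hn)
    exact ⟨[], by simp, by simp, by simp⟩
  | succ n ih =>
    intro R hn hR
    by_cases hR0 : R = 0
    · subst hR0; exact ⟨[], by simp, by simp, by simp⟩
    obtain ⟨x, hx⟩ := Multiset.exists_mem_of_ne_zero hR0
    obtain ⟨t, R', ht, hR', hcard, hy⟩ := hR.step hinj hx
    have hc : 1 ≤ R.count x := Multiset.count_pos.2 hx
    have hmul : 2 * t.1 ≤ 2 * t.1 * R.count x := Nat.le_mul_of_pos_right _ hc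
    obtain ⟨l, hl, hls, hlc⟩ := ih (R := R') (by omega) hR'
    refine ⟨t :: l, List.forall_mem_cons.2 ⟨ht, hl⟩, by simp only [List.map_cons, List.sum_cons]; omega, fun y hyR => ?_⟩
    rcases hy y hyR with h | h
    · exact ⟨t, by simp, h⟩
    · obtain ⟨u, hu, hu'⟩ := hlc y h
      exact ⟨u, by simp [hu], hu'⟩

/-- The exponent of a stable multiset: a multiplicity lowers the rank. -/
theorem Stable.exists_torus {q : ℕ} (hq : 1 ≤ q) (hinj : Function.Injective fun x : K => x ^ q) {R : Multiset K}
    (hR : Stable q R) {c r : ℕ} (hc : c = 0 ∨ ∃ x ∈ R, c + 1 ≤ R.count x) (hr : r ≤ 4)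
    (hcard : R.card ≤ 2 * (r + c) + 1) : ∃ X ∈ torList q r, ∀ y ∈ R, y ^ X = 1 := by
  obtain ⟨l, hl, hls, hlc⟩ : ∃ l : List (ℕ × Bool), (∀ t ∈ l, 1 ≤ t.1) ∧ (l.map Prod.fst).sum ≤ r ∧
      ∀ y ∈ R, ∃ t ∈ l, y ^ torVal q t = 1 := by
    rcases hc with rfl | ⟨x, hx, hxc⟩
    · obtain ⟨l, hl, hls, hlc⟩ := hR.split hinj _ le_rfl
      exact ⟨l, hl, by omega, hlc⟩
    · obtain ⟨t, R', ht, hR', hcard', hy⟩ := hR.step hinj hx
      obtain ⟨l, hl, hls, hlc⟩ := hR'.split hinj _ le_rfl
      refine ⟨t :: l, List.forall_mem_cons.2 ⟨ht, hl⟩, ?_, fun y hyR => ?_⟩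
      · simp only [List.map_cons, List.sum_cons]
        have : 2 * t.1 * (c + 1) ≤ 2 * t.1 * R.count x := Nat.mul_le_mul_left _ hxc
        have : c ≤ t.1 * c := Nat.le_mul_of_pos_left _ ht
        have e : 2 * t.1 * (c + 1) = 2 * (t.1 * c) + 2 * t.1 := by ring
        omega
      · rcases hy y hyR with h | h
        · exact ⟨t, by simp, h⟩
        · obtain ⟨u, hu, hu'⟩ := hlc y h
          exact ⟨u, by simp [hu], hu'⟩
  obtain ⟨X, hX, hdvd⟩ := cover q hq hl hr hls
  refine ⟨X, hX, fun y hy => ?_⟩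
  obtain ⟨t, ht, hty⟩ := hlc y hy
  obtain ⟨d, hd⟩ := hdvd t ht
  rw [hd, pow_mul, hty, one_pow]

end Cfsg.Agent.EvenSymp
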