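/-
Orders of symplectic maps in dimension eight, characteristic two, and of their extensions by the module.
-/
import Cfsg.Agent.Lib.Isospectral.EvenSymp.Orbits

set_option autoImplicit false
set_option linter.all false

namespace Cfsg.Agent.EvenSymp

open Polynomial Module Matrix
open scoped Classical

section End

variable {F : Type*} [Field F] {V : Type*} [AddCommGroup V] [Module F V] [FiniteDimensional F V]

/-- A long chain of a nilpotent map inside an invariant subspace. -/
theorem chain {N : End F V} {E : Submodule F V} (hE : ∀ x ∈ E, N x ∈ E) {b : ℕ} (hb : ∀ x ∈ E, (N ^ b) x = 0) :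
    ∀ (j : ℕ) {x : V}, x ∈ E → (N ^ j) x ≠ 0 → j + 1 ≤ finrank F E ∧ j ≤ finrank F (E.map N) ∧
      finrank F (E.map N) < finrank F E := by
  intro j
  induction hd : finrank F E using Nat.strong_induction_on generalizing E j with
  | _ d ih =>
    intro x hx hj
    have hle : E.map N ≤ E := Submodule.map_le_iff_le_comap.2 hE
    have hne : E.map N ≠ E := fun he => by
      have hall : ∀ i, E.map (N ^ i) = E := by
        intro i
        induction i with
        | zero => rw [pow_zero, Module.End.one_eq_id, Submodule.map_id]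
        | succ i ihi => rw [pow_succ, Module.End.mul_eq_comp, Submodule.map_comp, he, ihi]
      have h0 : x ∈ E.map (N ^ b) := (hall b).symm ▸ hx
      obtain ⟨y, hy, rfl⟩ := h0
      exact hj (by rw [hb y hy, map_zero])
    have hlt : finrank F (E.map N) < d := hd ▸ Submodule.finrank_lt_finrank_of_lt (lt_of_le_of_ne hle hne)
    refine ⟨?_, ?_, hlt⟩
    all_goals
      cases j with
      | zero => omega
      | succ j =>
        have h := ih _ hlt (E := E.map N) (fun y hy => Submodule.mem_map_of_mem (hle hy)) (fun y hy => hb y (hle hy))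
          j rfl (x := N x) (Submodule.mem_map_of_mem hx) (by rw [← Module.End.mul_apply, ← pow_succ]; exact hj)
        omega

theorem natCast_odd [CharP F 2] {m : ℕ} (hm : Odd m) : (m : F) = 1 := by
  obtain ⟨t, rfl⟩ := hm
  rw [Nat.cast_add, Nat.cast_mul, Nat.cast_ofNat, CharTwo.two_eq_zero, zero_mul, zero_add, Nat.cast_one]

theorem maxGen_eq [CharP F 2] {m : ℕ} (hm : Odd m) {f : End F V} (hf : f ^ m = 1) (μ : F) :
    f.maxGenEigenspace μ = f.eigenspace μ := by
  have hne : (m : F) ≠ 0 := by rw [natCast_odd hm]; exact one_ne_zero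
  have hs : f.IsSemisimple := Module.End.isSemisimple_of_squarefree_aeval_eq_zero
    ((separable_X_pow_sub_C (1 : F) hne one_ne_zero).squarefree) (by simp [hf])
  exact (Module.End.IsFinitelySemisimple.maxGenEigenspace_eq_eigenspace hs.isFinitelySemisimple μ)

theorem mem_eigen {f : End F V} {μ : F} {x : V} : x ∈ f.eigenspace μ ↔ f x = μ • x := Module.End.mem_eigenspace_iff

theorem eigen_invariant {f N : End F V} (h : Commute f N) {μ : F} {x : V} (hx : x ∈ f.eigenspace μ) :
    N x ∈ f.eigenspace μ := by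
  rw [mem_eigen] at hx ⊢
  rw [← Module.End.mul_apply, h.eq, Module.End.mul_apply, hx, map_smul]

end End

variable {F : Type*} [Field F] [CharP F 2] {ι : Type*} [Fintype ι] [DecidableEq ι]

/-- A matrix as an endomorphism of column vectors. -/
noncomputable def lin {K : Type*} [Field K] (A : Matrix ι ι K) : Module.End K (ι → K) := Matrix.toLin' A

theorem lin_mul {K : Type*} [Field K] (A B : Matrix ι ι K) : lin (A * B) = lin A * lin B := Matrix.toLin'_mul A B

theorem lin_one {K : Type*} [Field K] : lin (1 : Matrix ι ι K) = 1 := Matrix.toLin'_one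

theorem lin_sub {K : Type*} [Field K] (A B : Matrix ι ι K) : lin (A - B) = lin A - lin B := map_sub Matrix.toLin' A B

theorem lin_zero {K : Type*} [Field K] : lin (0 : Matrix ι ι K) = 0 := map_zero Matrix.toLin'

theorem lin_pow {K : Type*} [Field K] (A : Matrix ι ι K) (i : ℕ) : lin (A ^ i) = lin A ^ i := by
  induction i with
  | zero => rw [pow_zero, pow_zero, lin_one]
  | succ i ih => rw [pow_succ, pow_succ, lin_mul, ih]

theorem lin_apply {K : Type*} [Field K] (A : Matrix ι ι K) (x : ι → K) : lin A x = A *ᵥ x := Matrix.toLin'_apply A x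

theorem lin_injective {K : Type*} [Field K] : Function.Injective (lin (ι := ι) (K := K)) := Matrix.toLin'.injective

theorem lin_charpoly {K : Type*} [Field K] (A : Matrix ι ι K) : (lin A).charpoly = A.charpoly := Matrix.charpoly_toLin' A

/-- The geometric sum of two-power length. -/
theorem geom_two (k : ℕ) (A : Matrix ι ι F) : ∑ i ∈ Finset.range (2 ^ k), A ^ i = (A - 1) ^ (2 ^ k - 1) := by
  have h : ∑ i ∈ Finset.range (2 ^ k), (X : F[X]) ^ i = (X - 1) ^ (2 ^ k - 1) := by
    refine mul_left_cancel₀ (show (X : F[X]) - 1 ≠ 0 by simpa using X_sub_C_ne_zero (1 : F)) ?_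
    rw [mul_geom_sum, ← pow_succ', Nat.sub_add_cancel Nat.one_le_two_pow, sub_pow_char_pow, one_pow]
  have := congrArg (aeval A) h
  simpa [map_sum] using this

theorem sum_range_mul {R : Type*} [Semiring R] (A : R) (a b : ℕ) :
    ∑ i ∈ Finset.range (a * b), A ^ i = (∑ r ∈ Finset.range a, A ^ r) * ∑ t ∈ Finset.range b, (A ^ a) ^ t := by
  induction b with
  | zero => simp
  | succ b ih =>
    rw [Nat.mul_succ, Finset.sum_range_add, ih, Finset.sum_range_succ, mul_add, Finset.sum_mul (s := Finset.range a) (f := fun r => A ^ r) (a := (A ^ a) ^ b)]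
    congr 1
    refine Finset.sum_congr rfl fun r _ => ?_
    rw [← pow_mul, ← pow_add, add_comm r]

variable (G : Matrix ι ι F) (hG : IsUnit G.det)
include hG

theorem charpoly_inv_eq {A : Matrix ι ι F} (hA : Aᵀ * G * A = G) : A⁻¹.charpoly = A.charpoly := by
  have hd : IsUnit A.det := by
    have := congrArg Matrix.det hA
    rw [det_mul, det_mul, det_transpose] at this
    exact isUnit_of_mul_isUnit_right (this.symm ▸ hG)
  have h : A⁻¹ = G⁻¹ * (Aᵀ * G) := by
    refine Matrix.inv_eq_left_inv ?_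
    rw [mul_assoc, hA, Matrix.nonsing_inv_mul _ hG]
  rw [h, Matrix.charpoly_mul_comm, mul_assoc, Matrix.mul_nonsing_inv _ hG, mul_one, Matrix.charpoly_transpose]

/-- The eigenvalues other than one form a stable multiset. -/
theorem count_inv {A : Matrix ι ι F} (hA : Aᵀ * G * A = G) (x : AlgebraicClosure F) :
    (A.map (algebraMap F (AlgebraicClosure F))).charpoly.roots.count x⁻¹ =
      (A.map (algebraMap F (AlgebraicClosure F))).charpoly.roots.count x := by
  classical
  set φ := algebraMap F (AlgebraicClosure F) with hφ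
  have hAK : (A.map φ)ᵀ * G.map φ * A.map φ = G.map φ := by
    rw [← Matrix.transpose_map, ← Matrix.map_mul, ← Matrix.map_mul, hA]
  have hGK : IsUnit (G.map φ).det := by
    rw [← RingHom.mapMatrix_apply, ← RingHom.map_det]; exact hG.map φ
  have hd : IsUnit (A.map φ).det := by
    have := congrArg Matrix.det hAK
    rw [det_mul, det_mul, det_transpose] at this
    exact isUnit_of_mul_isUnit_right (this.symm ▸ hGK)
  set p := (A.map φ).charpoly with hp
  have hp0 : p ≠ 0 := (Matrix.charpoly_monic _).ne_zero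
  obtain ⟨c, hc, hrev⟩ : ∃ c : AlgebraicClosure F, c ≠ 0 ∧ p = C c * p.reverse := by
    have h := Matrix.charpoly_inv (A.map φ) ((Matrix.isUnit_iff_isUnit_det _).2 hd)
    rw [charpoly_inv_eq (G.map φ) hGK hAK, ← hp, ← Matrix.reverse_charpoly, ← hp] at h
    refine ⟨(-1) ^ Fintype.card ι * Ring.inverse (A.map φ).det, mul_ne_zero (pow_ne_zero _ (by simp)) ?_, ?_⟩
    · rw [Ring.inverse_eq_inv']; exact inv_ne_zero hd.ne_zero
    · rw [map_mul, map_pow, map_neg, map_one]; exact h
  have hpr0 : p.reverse ≠ 0 := fun e => hp0 (by rw [hrev, e, mul_zero])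
  have key : ∀ y : AlgebraicClosure F, p.roots.count y ≤ p.roots.count y⁻¹ := by
    intro y
    rcases eq_or_ne y 0 with rfl | hy
    · rw [_root_.inv_zero]
    rw [count_roots, count_roots]
    obtain ⟨w, hw⟩ := pow_rootMultiplicity_dvd p y
    rw [le_rootMultiplicity_iff hp0]
    have hlin : (X - C y).reverse = C (-y) * (X - C y⁻¹) := by
      rw [Polynomial.reverse, natDegree_X_sub_C, reflect_sub]
      rw [show reflect 1 (X : (AlgebraicClosure F)[X]) = 1 by simpa using reflect_one_X, reflect_C, pow_one]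
      rw [map_neg, mul_sub, ← map_neg, ← map_mul, neg_mul, mul_inv_cancel₀ hy, map_neg, map_neg, map_one]
      ring
    have hpw : ∀ n : ℕ, ((X - C y) ^ n).reverse = C ((-y) ^ n) * (X - C y⁻¹) ^ n := by
      intro n
      induction n with
      | zero => simpa using (Polynomial.reverse_C (1 : AlgebraicClosure F))
      | succ n ih => rw [pow_succ, reverse_mul_of_domain, ih, hlin, map_pow, map_pow, pow_succ, pow_succ]; ring
    conv_rhs => rw [hrev, hw, reverse_mul_of_domain, hpw]
    exact Dvd.intro (C c * C ((-y) ^ rootMultiplicity y p) * w.reverse) (by ring)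
  refine le_antisymm ?_ (key x)
  simpa using key x⁻¹

theorem count_pow [Fintype F] (A : Matrix ι ι F) (x : AlgebraicClosure F) :
    (A.map (algebraMap F (AlgebraicClosure F))).charpoly.roots.count (x ^ Fintype.card F) =
      (A.map (algebraMap F (AlgebraicClosure F))).charpoly.roots.count x := by
  classical
  set φ := algebraMap F (AlgebraicClosure F) with hφ
  let fr : AlgebraicClosure F →+* AlgebraicClosure F :=
    (FiniteField.frobeniusAlgHom F (AlgebraicClosure F)).toRingHom
  have hfr : ∀ y, fr y = y ^ Fintype.card F := fun y => rfl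
  have hcomp : fr.comp φ = φ := RingHom.ext fun a => by
    rw [RingHom.comp_apply, hfr, ← map_pow, FiniteField.pow_card]
  have hinj : Function.Injective fr := fr.injective
  have hmap : (A.map φ).charpoly.map fr = (A.map φ).charpoly := by
    rw [Matrix.charpoly_map, Polynomial.map_map, hcomp]
  have hsplit : Multiset.card (A.map φ).charpoly.roots = (A.map φ).charpoly.natDegree :=
    IsAlgClosed.card_roots_eq_natDegree
  have := Polynomial.roots_map_of_injective_of_card_eq_natDegree hinj hsplit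
  rw [hmap] at this
  conv_lhs => rw [← this, ← hfr, Multiset.count_map_eq_count' _ _ hinj]

/-- The order of the semisimple part from the dimensions of two eigenspaces. -/
theorem exists_exp [Fintype F] (hι : Fintype.card ι = 8) {A : Matrix ι ι F} (hA : Aᵀ * G * A = G) {m : ℕ} (hm : Odd m)
    (hAm : A ^ m = 1) {c r : ℕ} (hr : r ≤ 4)
    (hc : c = 0 ∨ ∃ μ : AlgebraicClosure F, μ ≠ 1 ∧ c + 1 ≤ finrank (AlgebraicClosure F)
      (Module.End.eigenspace (lin (A.map (algebraMap F (AlgebraicClosure F)))) μ))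
    (hn : 8 ≤ finrank (AlgebraicClosure F)
      (Module.End.eigenspace (lin (A.map (algebraMap F (AlgebraicClosure F)))) 1) + (2 * (r + c) + 1)) :
    ∃ X ∈ torList (Fintype.card F) r, A ^ X = 1 := by
  classical
  set φ := algebraMap F (AlgebraicClosure F) with hφ
  haveI : CharP (AlgebraicClosure F) 2 := charP_of_injective_algebraMap φ.injective 2
  set f := lin (A.map φ) with hf
  have hfm : f ^ m = 1 := by
    rw [hf, ← lin_pow, ← Matrix.map_pow A, hAm, Matrix.map_one _ φ.map_zero φ.map_one, lin_one]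
  have hcount : ∀ μ, (A.map φ).charpoly.roots.count μ = finrank (AlgebraicClosure F) (f.eigenspace μ) := by
    intro μ
    rw [count_roots, ← maxGen_eq hm hfm, LinearMap.finrank_maxGenEigenspace_eq, hf, lin_charpoly]
  have hf0 : ∀ μ, μ ^ m ≠ 1 → f.eigenspace μ = ⊥ := by
    intro μ hμ
    rw [Submodule.eq_bot_iff]
    intro x hx
    have hpow : ∀ i, (f ^ i) x = μ ^ i • x := by
      intro i
      induction i with
      | zero => simp
      | succ i ih => rw [pow_succ, Module.End.mul_apply, mem_eigen.1 hx, map_smul, ih, smul_smul, pow_succ']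
    have := hpow m
    rw [hfm, Module.End.one_apply] at this
    by_contra hx0
    exact hμ (smul_left_injective _ hx0 (show μ ^ m • x = (1 : AlgebraicClosure F) • x by rw [← this, one_smul]))
  set R := (A.map φ).charpoly.roots.filter (· ≠ 1) with hR
  have hRc : ∀ μ, R.count μ = if μ ≠ 1 then finrank (AlgebraicClosure F) (f.eigenspace μ) else 0 := fun μ => by
    rw [hR, Multiset.count_filter, hcount]
  have hstable : Stable (Fintype.card F) R := by
    refine ⟨fun x => ?_, fun x => ?_, fun x hx => ⟨?_, (Multiset.mem_filter.1 hx).2⟩⟩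
    · rw [hR, Multiset.count_filter, Multiset.count_filter, count_pow G hG]
      have hi : x ^ Fintype.card F = 1 ↔ x = 1 := by
        refine ⟨fun h => (FiniteField.frobeniusAlgHom F (AlgebraicClosure F)).toRingHom.injective
          (show x ^ Fintype.card F = (1 : AlgebraicClosure F) ^ Fintype.card F by rw [h, one_pow]), fun h => by rw [h, one_pow]⟩
      by_cases hx1 : x = 1
      · simp [hx1]
      · simp [hx1, hi, hφ]
    · rw [hR, Multiset.count_filter, Multiset.count_filter, count_inv G hG hA]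
      by_cases hx1 : x = 1
      · simp [hx1]
      · simp [hx1, inv_eq_one, hφ]
    · rintro rfl
      have h1 : 0 < (A.map φ).charpoly.roots.count 0 := Multiset.count_pos.2 (Multiset.mem_filter.1 hx).1
      rw [hcount, hf0 0 (by rw [zero_pow hm.pos.ne']; exact zero_ne_one), finrank_bot] at h1
      exact lt_irrefl 0 h1
  have hcard : R.card + finrank (AlgebraicClosure F) (f.eigenspace 1) = 8 := by
    have hsplit : Multiset.card (A.map φ).charpoly.roots = 8 := by
      rw [IsAlgClosed.card_roots_eq_natDegree, Matrix.charpoly_natDegree_eq_dim, hι]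
    rw [← hcount, ← hsplit, Multiset.count_eq_card_filter_eq, hR, add_comm, ← Multiset.card_add]
    congr 1
    rw [Multiset.filter_congr (q := fun y => y = 1) (fun y _ => eq_comm)]
    exact Multiset.filter_add_not _ _
  obtain ⟨X, hX, hXR⟩ := hstable.exists_torus (q := Fintype.card F) Fintype.card_pos
    (fun a b h => (FiniteField.frobeniusAlgHom F (AlgebraicClosure F)).toRingHom.injective h) (c := c) (r := r)
    (hc.imp_right fun ⟨μ, hμ, hd⟩ => ⟨μ, by
      rw [← Multiset.count_pos, hRc, if_pos hμ]; omega, by rw [hRc, if_pos hμ]; exact hd⟩) hr (by omega)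
  refine ⟨X, hX, Matrix.map_injective φ.injective ?_⟩
  beta_reduce
  rw [Matrix.map_pow, Matrix.map_one _ φ.map_zero φ.map_one]
  apply lin_injective
  rw [lin_pow, lin_one]
  refine LinearMap.ext fun x => ?_
  have hx : x ∈ ⨆ μ, f.maxGenEigenspace μ := by rw [Module.End.iSup_maxGenEigenspace_eq_top]; trivial
  induction hx using Submodule.iSup_induction' with
  | mem μ x hx =>
    rw [maxGen_eq hm hfm] at hx
    by_cases hx0 : x = 0
    · rw [hx0, map_zero, map_zero]
    have hμX : μ ^ X = 1 := by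
      by_cases hμ : μ = 1
      · rw [hμ, one_pow]
      refine hXR μ ?_
      rw [← Multiset.count_pos, hRc, if_pos hμ]
      exact Submodule.one_le_finrank_iff.2 fun e => hx0 (by simpa [e] using hx)
    have hpow : ∀ i, (f ^ i) x = μ ^ i • x := by
      intro i
      induction i with
      | zero => simp
      | succ i ih => rw [pow_succ, Module.End.mul_apply, mem_eigen.1 hx, map_smul, ih, smul_smul, pow_succ']
    rw [← hf, hpow, hμX, one_smul, Module.End.one_apply]
  | zero => rw [map_zero, map_zero]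
  | add x y _ _ ihx ihy => rw [map_add, map_add, ihx, ihy]

/-- The maximal element orders. -/
def bigList (q : ℕ) : List ℕ :=
  torList q 4 ++ (torList q 3).map (2 * ·) ++ (torList q 2).map (4 * ·) ++ (torList q 1).map (8 * ·)

omit hG in
theorem mem_bigList {q k X : ℕ} (hk : k ≤ 3) (hX : X ∈ torList q (4 - k)) : 2 ^ k * X ∈ bigList q := by
  rcases (show k = 0 ∨ k = 1 ∨ k = 2 ∨ k = 3 by omega) with rfl | rfl | rfl | rfl <;>
    simp [bigList] <;> simp_all

/-- The element orders of the symplectic group. -/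
theorem exists_bound [Fintype F] (hι : Fintype.card ι = 8) {A : Matrix ι ι F} (hA : Aᵀ * G * A = G) {k m : ℕ}
    (hm : Odd m) (hAk : A ^ (2 ^ k * m) = 1) (hmin : k = 0 ∨ A ^ (2 ^ (k - 1) * m) ≠ 1) :
    ∃ X ∈ torList (Fintype.card F) (4 - k), k ≤ 3 ∧ A ^ (2 ^ k * X) = 1 := by
  classical
  have hS : (A ^ 2 ^ k)ᵀ * G * A ^ 2 ^ k = G := by
    generalize 2 ^ k = i
    induction i with
    | zero => simp
    | succ i ih =>
      rw [pow_succ', transpose_mul, show (A ^ i)ᵀ * Aᵀ * G * (A * A ^ i) = (A ^ i)ᵀ * (Aᵀ * G * A) * A ^ i by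
        simp only [mul_assoc], hA, ih]
  have hSm : (A ^ 2 ^ k) ^ m = 1 := by rw [← pow_mul, hAk]
  rcases hmin with rfl | hmin
  · obtain ⟨X, hX, hX1⟩ := exists_exp G hG hι hS hm hSm (c := 0) (r := 4) le_rfl (Or.inl rfl) (by omega)
    exact ⟨X, hX, by omega, by rw [pow_mul, hX1]⟩
  set φ := algebraMap F (AlgebraicClosure F) with hφ
  haveI : CharP (AlgebraicClosure F) 2 := charP_of_injective_algebraMap φ.injective 2
  haveI : Nonempty ι := Fintype.card_pos_iff.1 (by omega)
  set f := lin ((A ^ 2 ^ k).map φ) with hf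
  set N := lin ((A ^ m - 1).map φ) with hN
  have hfm : f ^ m = 1 := by
    rw [hf, ← lin_pow, ← Matrix.map_pow _, hSm, Matrix.map_one _ φ.map_zero φ.map_one, lin_one]
  have hcomm : Commute f N := by
    have : Commute (A ^ 2 ^ k) (A ^ m - 1) := ((Commute.refl A).pow_pow _ _).sub_right (Commute.one_right _)
    show f * N = N * f
    rw [hf, hN, ← lin_mul, ← lin_mul, ← Matrix.map_mul, ← Matrix.map_mul, this.eq]
  have hpw : ∀ i, N ^ i = lin (((A ^ m - 1) ^ i).map φ) := fun i => by
    rw [hN, ← lin_pow, ← Matrix.map_pow]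
  have hnil : N ^ 2 ^ k = 0 := by
    rw [hpw, sub_pow_char_pow_of_commute _ _ (Commute.one_right _), ← pow_mul, mul_comm, hAk, one_pow, sub_self,
      Matrix.map_zero _ φ.map_zero, lin_zero]
  have hj : N ^ 2 ^ (k - 1) ≠ 0 := by
    rw [hpw, sub_pow_char_pow_of_commute _ _ (Commute.one_right _), ← pow_mul, mul_comm, one_pow]
    intro h
    apply hmin
    rw [← sub_eq_zero]
    refine Matrix.map_injective φ.injective (lin_injective (h.trans ?_))
    beta_reduce
    rw [Matrix.map_zero _ φ.map_zero, lin_zero]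
  obtain ⟨μ, x, hx, hNx⟩ : ∃ μ x, x ∈ f.eigenspace μ ∧ (N ^ 2 ^ (k - 1)) x ≠ 0 := by
    by_contra hc
    push Not at hc
    refine hj (LinearMap.ext fun x => ?_)
    have hx : x ∈ ⨆ μ, f.maxGenEigenspace μ := by rw [Module.End.iSup_maxGenEigenspace_eq_top]; trivial
    induction hx using Submodule.iSup_induction' with
    | mem μ x hx => rw [maxGen_eq hm hfm] at hx; exact hc μ x hx
    | zero => rw [map_zero, map_zero]
    | add x y _ _ ihx ihy => rw [map_add, map_add, ihx, ihy]
  obtain ⟨hd, -, -⟩ := chain (E := f.eigenspace μ) (fun y hy => eigen_invariant hcomm hy) (b := 2 ^ k)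
    (fun y _ => by rw [hnil]; rfl) _ hx hNx
  have hd8 : 2 ^ (k - 1) + 1 ≤ 8 := by
    refine hd.trans ((Submodule.finrank_le _).trans_eq ?_)
    rw [Module.finrank_pi, hι]
  have hk : k ≤ 3 := by
    by_contra h
    have : 2 ^ 3 ≤ 2 ^ (k - 1) := Nat.pow_le_pow_right two_pos (by omega)
    omega
  rcases Nat.eq_zero_or_pos k with rfl | hk0
  · exact absurd (by simpa using hAk) (show A ^ (2 ^ (0 - 1) * m) ≠ 1 from hmin)
  obtain ⟨c, hc, hn⟩ : ∃ c, (c = 0 ∨ ∃ μ, μ ≠ 1 ∧ c + 1 ≤ finrank (AlgebraicClosure F) (f.eigenspace μ)) ∧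
      8 ≤ finrank (AlgebraicClosure F) (f.eigenspace 1) + (2 * (4 - k + c) + 1) := by
    by_cases hμ : μ = 1
    · subst hμ
      refine ⟨0, Or.inl rfl, ?_⟩
      rcases (show k = 1 ∨ k = 2 ∨ k = 3 by omega) with rfl | rfl | rfl <;> norm_num at hd ⊢ <;> omega
    · refine ⟨2 ^ (k - 1), Or.inr ⟨μ, hμ, hd⟩, ?_⟩
      rcases (show k = 1 ∨ k = 2 ∨ k = 3 by omega) with rfl | rfl | rfl <;> norm_num <;> omega
  obtain ⟨X, hX, hX1⟩ := exists_exp G hG hι hS hm hSm (c := c) (r := 4 - k) (by omega) hc hn
  exact ⟨X, hX, hk, by rw [pow_mul, hX1]⟩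

/-- The element orders of the extension of the kernel of parity by the module. -/
theorem exists_bound_ext [Fintype F] (hι : Fintype.card ι = 8) {A : Matrix ι ι F} (hA : Aᵀ * G * A = G)
    (hpar : ∀ i, Even (finrank F (LinearMap.range (lin (A ^ i - 1))))) {n : ℕ} (hn : 0 < n) (hAn : A ^ n = 1) :
    ∃ X ∈ bigList (Fintype.card F), A ^ X = 1 ∧ ∑ i ∈ Finset.range X, A ^ i = 0 := by
  classical
  have ho : 0 < orderOf A := orderOf_pos_iff.2 (isOfFinOrder_iff_pow_eq_one.2 ⟨n, hn, hAn⟩)
  obtain ⟨k, m, hm, hkm⟩ := Nat.exists_eq_two_pow_mul_odd ho.ne'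
  have hAk : A ^ (2 ^ k * m) = 1 := by rw [← hkm, pow_orderOf_eq_one]
  have hmin : k = 0 ∨ A ^ (2 ^ (k - 1) * m) ≠ 1 := by
    rcases Nat.eq_zero_or_pos k with h | h
    · exact Or.inl h
    refine Or.inr fun he => ?_
    have h1 := Nat.le_of_dvd (Nat.mul_pos (Nat.two_pow_pos _) hm.pos) (orderOf_dvd_of_pow_eq_one he)
    rw [hkm] at h1
    have h2 : 2 ^ (k - 1) < 2 ^ k := Nat.pow_lt_pow_right one_lt_two (by omega)
    have := Nat.mul_lt_mul_of_pos_right h2 hm.pos
    omega
  obtain ⟨X₀, hX₀, hk3, hX₀1⟩ := exists_bound G hG hι hA hm hAk hmin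
  by_cases hsum : ∑ i ∈ Finset.range (orderOf A), A ^ i = 0
  · refine ⟨2 ^ k * X₀, mem_bigList hk3 hX₀, hX₀1, ?_⟩
    obtain ⟨t, ht⟩ := orderOf_dvd_of_pow_eq_one hX₀1
    rw [ht, sum_range_mul, hsum, zero_mul]
  set φ := algebraMap F (AlgebraicClosure F) with hφ
  haveI : CharP (AlgebraicClosure F) 2 := charP_of_injective_algebraMap φ.injective 2
  haveI : Nonempty ι := Fintype.card_pos_iff.1 (by omega)
  have hS : (A ^ 2 ^ k)ᵀ * G * A ^ 2 ^ k = G := by
    generalize 2 ^ k = i
    induction i with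
    | zero => simp
    | succ i ih =>
      rw [pow_succ', transpose_mul, show (A ^ i)ᵀ * Aᵀ * G * (A * A ^ i) = (A ^ i)ᵀ * (Aᵀ * G * A) * A ^ i by
        simp only [mul_assoc], hA, ih]
  have hSm : (A ^ 2 ^ k) ^ m = 1 := by rw [← pow_mul, hAk]
  set f := lin ((A ^ 2 ^ k).map φ) with hf
  set a := lin ((A - 1).map φ) with ha
  set N := lin ((A ^ m - 1).map φ) with hN
  have hfm : f ^ m = 1 := by
    rw [hf, ← lin_pow, ← Matrix.map_pow _, hSm, Matrix.map_one _ φ.map_zero φ.map_one, lin_one]
  -- the base field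
  set f₀ := lin (A ^ 2 ^ k) with hf₀
  set N₀ := lin (A ^ m - 1) with hN₀
  have hf₀m : f₀ ^ m = 1 := by
    rw [hf₀, ← lin_pow, hSm, lin_one]
  have hcomm₀ : Commute f₀ N₀ := by
    have : Commute (A ^ 2 ^ k) (A ^ m - 1) := ((Commute.refl A).pow_pow _ _).sub_right (Commute.one_right _)
    show f₀ * N₀ = N₀ * f₀
    rw [hf₀, hN₀, ← lin_mul, ← lin_mul, this.eq]
  have hnil₀ : (A ^ m - 1) ^ 2 ^ k = 0 := by
    rw [sub_pow_char_pow_of_commute _ _ (Commute.one_right _), ← pow_mul, mul_comm, hAk, one_pow, sub_self]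
  -- a long chain in the fixed space
  obtain ⟨y, hy, hNy⟩ : ∃ y, y ∈ f₀.eigenspace 1 ∧ (N₀ ^ (2 ^ k - 1)) y ≠ 0 := by
    rw [hkm, sum_range_mul, geom_two] at hsum
    obtain ⟨v, hv⟩ : ∃ v, ((A - 1) ^ (2 ^ k - 1)) *ᵥ ((∑ t ∈ Finset.range m, (A ^ 2 ^ k) ^ t) *ᵥ v) ≠ 0 := by
      by_contra hc
      push Not at hc
      exact hsum (Matrix.ext_iff_mulVec.2 fun v => by rw [← Matrix.mulVec_mulVec, hc, Matrix.zero_mulVec])
    set y := (∑ t ∈ Finset.range m, (A ^ 2 ^ k) ^ t) *ᵥ v with hy
    have hy1 : A ^ 2 ^ k *ᵥ y = y := by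
      have h := mul_geom_sum (A ^ 2 ^ k) m
      rw [hSm, sub_self] at h
      have h2 := congrArg (· *ᵥ v) h
      simp only [Matrix.zero_mulVec, ← Matrix.mulVec_mulVec, Matrix.sub_mulVec, Matrix.one_mulVec] at h2
      exact sub_eq_zero.1 h2
    refine ⟨y, mem_eigen.2 (by rw [one_smul]; exact hy1), ?_⟩
    have hmcast : ((m : ℕ) : Matrix ι ι F) = 1 := by
      rw [← map_natCast (Matrix.scalar ι (α := F)), natCast_odd hm, map_one]
    obtain ⟨R, hR, hRc⟩ : ∃ R : Matrix ι ι F, A ^ m - 1 = (A - 1) * (1 + (A - 1) * R) ∧ Commute (A - 1) R := by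
      obtain ⟨P, hP⟩ : ((X : F[X]) - 1) ∣ ((∑ i ∈ Finset.range m, (X : F[X]) ^ i) - 1) := by
        rw [show ((X : F[X]) - 1) = X - C 1 by simp, dvd_iff_isRoot]
        simp [natCast_odd hm]
      refine ⟨aeval A P, ?_, ?_⟩
      · have h1 := congrArg (aeval A) hP
        simp only [map_sub, map_mul, map_one, aeval_X, map_sum, map_pow] at h1
        rw [← h1, add_sub_cancel, mul_geom_sum]
      · have := ((Commute.all (X : F[X]) P)).map (aeval A)
        rw [aeval_X] at this
        exact this.sub_left (Commute.one_left _)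
    rw [hN₀, ← lin_pow, lin_apply]
    have hkill : (A - 1) ^ 2 ^ k *ᵥ y = 0 := by
      rw [sub_pow_char_pow_of_commute _ _ (Commute.one_right _), one_pow, Matrix.sub_mulVec, Matrix.one_mulVec, hy1, sub_self]
    have hT : ∀ i, ∃ T : Matrix ι ι F, (1 + (A - 1) * R) ^ i = 1 + T * (A - 1) ∧ Commute (A - 1) T := by
      intro i
      induction i with
      | zero => exact ⟨0, by simp, Commute.zero_right _⟩
      | succ i ih =>
        obtain ⟨T, hT, hTc⟩ := ih
        refine ⟨T + R + T * (A - 1) * R, ?_, (hTc.add_right hRc).add_right ((hTc.mul_right (Commute.refl _)).mul_right hRc)⟩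
        rw [pow_succ, hT, hRc.eq]
        simp only [mul_add, add_mul, one_mul, mul_one, mul_assoc]
        abel
    obtain ⟨T, hT, hTc⟩ := hT (2 ^ k - 1)
    rw [hR, ((Commute.one_right _).add_right ((Commute.refl _).mul_right hRc)).mul_pow, hT, mul_add, mul_one,
      Matrix.add_mulVec, ← hTc.eq, ← mul_assoc, ← pow_succ, Nat.sub_add_cancel Nat.one_le_two_pow,
      (hTc.pow_left _).eq, ← Matrix.mulVec_mulVec _ T, hkill, Matrix.mulVec_zero, add_zero]
    exact hv
  have hnilN : ∀ z, (N₀ ^ 2 ^ k) z = 0 := fun z => by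
    rw [hN₀, ← lin_pow, hnil₀, lin_zero]; rfl
  obtain ⟨hd, hd', hd''⟩ := chain (E := f₀.eigenspace 1) (fun z hz => eigen_invariant hcomm₀ hz) (b := 2 ^ k)
    (fun z _ => hnilN z) _ hy hNy
  have hd0 : finrank (AlgebraicClosure F) (f.eigenspace 1) = finrank F (f₀.eigenspace 1) := by
    rw [← maxGen_eq hm hfm, ← maxGen_eq hm hf₀m, LinearMap.finrank_maxGenEigenspace_eq,
      LinearMap.finrank_maxGenEigenspace_eq, hf, hf₀, lin_charpoly, lin_charpoly,
      Matrix.charpoly_map, ← φ.map_one, ← Polynomial.eq_rootMultiplicity_map φ.injective]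
  have hd8 : finrank F (f₀.eigenspace 1) ≤ 8 := (Submodule.finrank_le _).trans_eq (by rw [Module.finrank_pi, hι])
  -- a second non-trivial block when the first is exactly filled
  have hblock : finrank F (f₀.eigenspace 1) ≤ 2 ^ k → 1 ≤ k →
      ∃ μ : AlgebraicClosure F, μ ≠ 1 ∧ 1 + 1 ≤ finrank (AlgebraicClosure F) (f.eigenspace μ) := by
    intro hfull hk0
    have hcomm : Commute f N := by
      have : Commute (A ^ 2 ^ k) (A ^ m - 1) := ((Commute.refl A).pow_pow _ _).sub_right (Commute.one_right _)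
      show f * N = N * f
      rw [hf, hN, ← lin_mul, ← lin_mul, ← Matrix.map_mul, ← Matrix.map_mul, this.eq]
    by_contra hc
    push Not at hc
    have hz : (A ^ m - 1) * (A ^ 2 ^ k - 1) = 0 := by
      refine Matrix.map_injective φ.injective (lin_injective ?_)
      beta_reduce
      rw [Matrix.map_mul, Matrix.map_sub _ φ.map_sub (A ^ 2 ^ k), Matrix.map_one _ φ.map_zero φ.map_one,
        lin_mul, lin_sub, lin_one, Matrix.map_zero _ φ.map_zero, lin_zero]
      refine LinearMap.ext fun x => ?_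
      rw [← hN, ← hf]
      have hx : x ∈ ⨆ μ, f.maxGenEigenspace μ := by rw [Module.End.iSup_maxGenEigenspace_eq_top]; trivial
      induction hx using Submodule.iSup_induction' with
      | mem μ x hx =>
        rw [maxGen_eq hm hfm] at hx
        show N (f x - x) = 0
        by_cases hμ : μ = 1
        · rw [mem_eigen.1 hx, hμ, one_smul, sub_self, map_zero]
        rw [mem_eigen.1 hx, map_sub, map_smul]
        suffices N x = 0 by rw [this, smul_zero, sub_zero]
        by_contra hNx
        have hnil : N ^ 2 ^ k = 0 := by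
          rw [hN, ← lin_pow, ← Matrix.map_pow, hnil₀, Matrix.map_zero _ φ.map_zero, lin_zero]
        have := (chain (E := f.eigenspace μ) (fun z hz => eigen_invariant hcomm hz) (b := 2 ^ k)
          (fun z _ => by rw [hnil]; rfl) 1 hx (by rw [pow_one]; exact hNx)).1
        have := hc μ hμ
        omega
      | zero => rw [map_zero, map_zero]
      | add x y _ _ ihx ihy => rw [map_add, map_add, ihx, ihy]
    have hzz : N₀ * f₀ = N₀ := by
      rw [mul_sub, mul_one, sub_eq_zero] at hz
      rw [hN₀, hf₀, ← lin_mul, hz]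
    have hrange : LinearMap.range N₀ = (f₀.eigenspace 1).map N₀ := by
      refine le_antisymm ?_ LinearMap.map_le_range
      rintro _ ⟨x, rfl⟩
      have hpowN : ∀ t, N₀ * f₀ ^ t = N₀ := by
        intro t
        induction t with
        | zero => rw [pow_zero, mul_one]
        | succ t ih => rw [pow_succ, ← mul_assoc, ih, hzz]
      refine ⟨(∑ t ∈ Finset.range m, f₀ ^ t) x, mem_eigen.2 ?_, ?_⟩
      · rw [one_smul]
        have h := mul_geom_sum f₀ m
        rw [hf₀m, sub_self] at h
        have h2 := LinearMap.congr_fun h x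
        rw [Module.End.mul_apply, LinearMap.sub_apply, Module.End.one_apply, LinearMap.zero_apply, sub_eq_zero] at h2
        exact h2
      · rw [← Module.End.mul_apply, Finset.mul_sum, Finset.sum_congr rfl fun t _ => hpowN t, Finset.sum_const,
          Finset.card_range, ← Nat.cast_smul_eq_nsmul F, natCast_odd hm, one_smul]
    have hev := hpar m
    rw [← hN₀, hrange] at hev
    have h2 : Even (2 ^ k) := (Nat.even_pow).2 ⟨even_two, by omega⟩
    rw [Nat.even_iff] at hev h2
    omega
  obtain ⟨c, hc, hk2, hn'⟩ : ∃ c, (c = 0 ∨ ∃ μ : AlgebraicClosure F, μ ≠ 1 ∧ c + 1 ≤ finrank (AlgebraicClosure F) (f.eigenspace μ)) ∧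
      k ≤ 2 ∧ 8 ≤ finrank (AlgebraicClosure F) (f.eigenspace 1) + (2 * (3 - k + c) + 1) := by
    rw [hd0]
    rcases (show k = 0 ∨ k = 1 ∨ k = 2 ∨ k = 3 by omega) with rfl | rfl | rfl | rfl <;> norm_num at hd hblock <;> simp only [Nat.reduceSub]
    · exact ⟨0, Or.inl rfl, by omega⟩
    · by_cases h : finrank F (f₀.eigenspace 1) ≤ 2
      · exact ⟨1, Or.inr (hblock h), by omega⟩
      · exact ⟨0, Or.inl rfl, by omega⟩
    · by_cases h : finrank F (f₀.eigenspace 1) ≤ 4
      · exact ⟨1, Or.inr (hblock h), by omega⟩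
      · exact ⟨0, Or.inl rfl, by omega⟩
    · exfalso
      obtain ⟨μ, hμ, hμd⟩ := hblock hd8
      have hdis : f.eigenspace μ ⊓ f.eigenspace 1 = ⊥ := by
        rw [Submodule.eq_bot_iff]
        rintro x ⟨h1, h2⟩
        have h1' := mem_eigen.1 h1
        rw [mem_eigen.1 h2, one_smul] at h1'
        by_contra hx0
        exact hμ (smul_left_injective _ hx0 (show μ • x = (1 : AlgebraicClosure F) • x by rw [← h1', one_smul]))
      have hs := Submodule.finrank_sup_add_finrank_inf_eq (f.eigenspace μ) (f.eigenspace 1)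
      rw [hdis, finrank_bot, hd0] at hs
      have : finrank (AlgebraicClosure F) (f.eigenspace μ ⊔ f.eigenspace 1 : Submodule _ _) ≤ 8 :=
        (Submodule.finrank_le _).trans_eq (by rw [Module.finrank_pi, hι])
      omega
  obtain ⟨X, hX, hX1⟩ := exists_exp G hG hι hS hm hSm (c := c) (r := 3 - k) (by omega) hc hn'
  refine ⟨2 ^ (k + 1) * X, mem_bigList (by omega) (by rwa [show 4 - (k + 1) = 3 - k by omega]), ?_, ?_⟩
  · rw [pow_succ, mul_comm (2 ^ k) 2, mul_assoc, mul_comm 2, pow_mul, pow_mul, hX1, one_pow]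
  · have hb : A ^ (2 ^ k * X) = 1 := by rw [pow_mul, hX1]
    rw [show 2 ^ (k + 1) * X = 2 ^ k * X + 2 ^ k * X by ring, Finset.sum_range_add]
    simp only [pow_add, hb, one_mul]
    rw [← two_smul F, CharTwo.two_eq_zero, zero_smul]

end Cfsg.Agent.EvenSymp
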