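/-
Quadratic spaces with tori over finite fields of characteristic two, and the sign of their Gauss sums.
-/
import Cfsg.Agent.Lib.LinearBlock.EvenForms
import Cfsg.Agent.Lib.LinearBlock.SpOrthChar2
import Mathlib.FieldTheory.Finite.Extension

set_option autoImplicit false
set_option linter.all false

universe u

namespace Cfsg.Agent.EvenSymp

open QuadraticMap Module Cfsg.Agent.Orth

variable {F : Type u} [Field F] [CharP F 2] [Fintype F]

/-- The additive character with kernel the image of `t ↦ t² + t`. -/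
noncomputable def psi (x : F) : ℤ := by classical exact if ∃ t : F, t ^ 2 + t = x then 1 else -1

theorem psi_of {x : F} (h : ∃ t : F, t ^ 2 + t = x) : psi x = 1 := if_pos h

theorem psi_not {x : F} (h : ¬ ∃ t : F, t ^ 2 + t = x) : psi x = -1 := if_neg h

theorem psi_zero : psi (0 : F) = 1 := psi_of ⟨0, by ring⟩

theorem psi_add (x y : F) : psi (x + y) = psi x * psi y := by
  have h2 : (2 : F) = 0 := CharTwo.two_eq_zero
  by_cases hx : ∃ t : F, t ^ 2 + t = x <;> by_cases hy : ∃ t : F, t ^ 2 + t = y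
  · obtain ⟨s, rfl⟩ := hx; obtain ⟨t, rfl⟩ := hy
    rw [psi_of ⟨s, rfl⟩, psi_of ⟨t, rfl⟩, psi_of ⟨s + t, by linear_combination (s * t) * h2⟩]; ring
  · obtain ⟨s, rfl⟩ := hx
    rw [psi_of ⟨s, rfl⟩, psi_not hy, psi_not]; · ring
    rintro ⟨t, ht⟩
    exact hy ⟨t + s, by linear_combination ht + (s * t + s ^ 2 + s) * h2⟩
  · obtain ⟨s, rfl⟩ := hy
    rw [psi_not hx, psi_of ⟨s, rfl⟩, psi_not]; · ring
    rintro ⟨t, ht⟩
    exact hx ⟨t + s, by linear_combination ht + (s * t + s ^ 2 + s) * h2⟩
  · rw [psi_not hx, psi_not hy, psi_of]; · ring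
    obtain ⟨t, ht⟩ := LBSpOrth.as_add (u := x) (w := y)
      (fun t e => hx ⟨t, by linear_combination e - x * h2⟩) (fun t e => hy ⟨t, by linear_combination e - y * h2⟩)
    exact ⟨t, by linear_combination ht - (x + y) * h2⟩

theorem psi_exists : ∃ x : F, psi x = -1 := by
  obtain ⟨z, hz⟩ := LBSpOrth.exists_nonsplit (F := F)
  exact ⟨z, psi_not fun ⟨t, ht⟩ => hz t (by rw [ht]; linear_combination z * (CharTwo.two_eq_zero (R := F)))⟩

/-- A sum of a non-trivial character vanishes. -/
theorem sum_psi {A : Type*} [AddCommGroup A] [Fintype A] (f : A →+ F) (h : ∃ a, psi (f a) = -1) :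
    ∑ a, psi (f a) = 0 := by
  obtain ⟨a₀, ha₀⟩ := h
  have h1 : ∑ a, psi (f a) = ∑ a, psi (f (a + a₀)) := (Equiv.sum_comp (Equiv.addRight a₀) fun a => psi (f a)).symm
  simp only [map_add, psi_add, ha₀, mul_neg, mul_one, Finset.sum_neg_distrib] at h1
  omega

theorem exists_neg {A : Type*} [AddCommGroup A] [Module F A] (f : A →ₗ[F] F) (h : f ≠ 0) : ∃ a, psi (f a) = -1 := by
  obtain ⟨a, ha⟩ : ∃ a, f a ≠ 0 := not_forall.1 fun e => h (LinearMap.ext e)
  obtain ⟨x, hx⟩ := psi_exists (F := F)
  exact ⟨(x / f a) • a, by rw [map_smul, smul_eq_mul, div_mul_cancel₀ _ ha, hx]⟩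

section

variable {V W : Type*} [AddCommGroup V] [Module F V] [AddCommGroup W] [Module F W]

/-- The Gauss sum. -/
noncomputable def gauss (Q : QuadraticForm F V) : ℤ := ∑ᶠ v, psi (Q v)

theorem gauss_eq [Fintype V] (Q : QuadraticForm F V) : gauss Q = ∑ v, psi (Q v) := finsum_eq_sum_of_fintype _

theorem gauss_congr {Q : QuadraticForm F V} {R : QuadraticForm F W} (g : V ≃ₗ[F] W) (h : ∀ v, Q v = R (g v)) :
    gauss Q = gauss R := by
  rw [gauss, gauss, ← finsum_comp_equiv g.toEquiv]
  exact finsum_congr fun v => by rw [h]; rfl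

theorem gauss_prod [FiniteDimensional F V] [FiniteDimensional F W] (Q : QuadraticForm F V) (R : QuadraticForm F W) :
    gauss (Q.prod R) = gauss Q * gauss R := by
  haveI : Finite V := Module.finite_of_finite F
  haveI : Finite W := Module.finite_of_finite F
  haveI := Fintype.ofFinite V
  haveI := Fintype.ofFinite W
  rw [gauss_eq, gauss_eq, gauss_eq, Fintype.sum_prod_type, Finset.sum_mul_sum]
  simp only [QuadraticMap.prod_apply, psi_add]

/-- A pairing. -/
theorem gauss_pairing [FiniteDimensional F V] [FiniteDimensional F W] (β : V →ₗ[F] W →ₗ[F] F)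
    (hβ : ∀ a, (∀ b, β a b = 0) → a = 0) (Q : QuadraticForm F (V × W)) (hQ : ∀ a b, Q (a, b) = β a b) :
    gauss Q = (Nat.card W : ℤ) := by
  classical
  haveI : Finite V := Module.finite_of_finite F
  haveI : Finite W := Module.finite_of_finite F
  haveI := Fintype.ofFinite V
  haveI := Fintype.ofFinite W
  rw [gauss_eq, Fintype.sum_prod_type, Finset.sum_eq_single 0]
  · simp [hQ, psi_zero, Nat.card_eq_fintype_card]
  · intro a _ ha
    simp only [hQ]
    exact sum_psi (β a).toAddMonoidHom (exists_neg (β a) fun e => ha (hβ a fun b => LinearMap.congr_fun e b))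
  · simp

end

theorem nondeg_prod {A W : Type*} [AddCommGroup A] [Module F A] [AddCommGroup W] [Module F W] {QA : QuadraticForm F A}
    {QW : QuadraticForm F W} (hA : (polarBilin QA).Nondegenerate) (hW : (polarBilin QW).Nondegenerate) :
    (polarBilin (QA.prod QW)).Nondegenerate := by
  refine nondeg_of fun x hx => Prod.ext (eq_zero_of_b hA fun y => ?_) (eq_zero_of_b hW fun y => ?_)
  · have := hx (y, 0)
    simp only [polar, QuadraticMap.prod_apply, Prod.fst_add, Prod.snd_add, add_zero, map_zero] at this ⊢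
    linear_combination this
  · have := hx (0, y)
    simp only [polar, QuadraticMap.prod_apply, Prod.fst_add, Prod.snd_add, add_zero, map_zero] at this ⊢
    linear_combination this

/-- Pairs of isometries of the summands. -/
def oProd {A W : Type*} [AddCommGroup A] [Module F A] [AddCommGroup W] [Module F W] (QA : QuadraticForm F A)
    (QW : QuadraticForm F W) : oGroup QA × oGroup QW →* oGroup (QA.prod QW) where
  toFun g := ⟨g.1.1.prodCongr g.2.1, fun x => by
    show (QA.prod QW) (g.1.1 x.1, g.2.1 x.2) = (QA.prod QW) x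
    rw [QuadraticMap.prod_apply, QuadraticMap.prod_apply, g.1.2, g.2.2]⟩
  map_one' := Subtype.ext (LinearEquiv.ext fun x => rfl)
  map_mul' a b := Subtype.ext (LinearEquiv.ext fun x => rfl)

theorem oProd_injective {A W : Type*} [AddCommGroup A] [Module F A] [AddCommGroup W] [Module F W]
    (QA : QuadraticForm F A) (QW : QuadraticForm F W) : Function.Injective (oProd QA QW) := by
  intro a b h
  refine Prod.ext (Subtype.ext (LinearEquiv.ext fun x => ?_)) (Subtype.ext (LinearEquiv.ext fun x => ?_))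
  · exact congrArg Prod.fst (LinearEquiv.congr_fun (congrArg Subtype.val h) (x, 0))
  · exact congrArg Prod.snd (LinearEquiv.congr_fun (congrArg Subtype.val h) (0, x))

/-- A space of dimension `2d` and sign `σ` with an isometry of order `m`. -/
def HasElt (F : Type u) [Field F] [CharP F 2] [Fintype F] (d : ℕ) (σ : ℤ) (m : ℕ) : Prop :=
  ∃ Q : QuadraticForm F (Fin (2 * d) → F),
    (polarBilin Q).Nondegenerate ∧ gauss Q = σ ∧ ∃ g : oGroup Q, orderOf g = m

theorem HasElt.of {W : Type*} [AddCommGroup W] [Module F W] [FiniteDimensional F W] {Q : QuadraticForm F W}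
    (hQ : (polarBilin Q).Nondegenerate) {d : ℕ} (hd : finrank F W = 2 * d) {σ : ℤ} (hs : gauss Q = σ) {m : ℕ}
    (g : oGroup Q) (hg : orderOf g = m) : HasElt F d σ m := by
  obtain ⟨e⟩ := FiniteDimensional.nonempty_linearEquiv_of_finrank_eq (R := F) (M := W) (M' := Fin (2 * d) → F)
    (by rw [hd, Module.finrank_fin_fun])
  have h : ∀ x, (Q.comp e.symm.toLinearMap) (e x) = Q x := fun x => congrArg Q (e.symm_apply_apply x)
  refine ⟨Q.comp e.symm.toLinearMap, nondeg_congr e h hQ, ?_, oCongr e h g, ?_⟩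
  · rw [← gauss_congr e fun x => (h x).symm, hs]
  · rw [MulEquiv.orderOf_eq, hg]

theorem HasElt.mul {d d' : ℕ} {σ σ' : ℤ} {m m' : ℕ} (h : HasElt F d σ m) (h' : HasElt F d' σ' m') :
    HasElt F (d + d') (σ * σ') (Nat.lcm m m') := by
  obtain ⟨Q, hQ, hs, g, hg⟩ := h
  obtain ⟨Q', hQ', hs', g', hg'⟩ := h'
  refine HasElt.of (nondeg_prod hQ hQ') ?_ ?_ (oProd Q Q' (g, g')) ?_
  · rw [Module.finrank_prod, Module.finrank_fin_fun, Module.finrank_fin_fun, mul_add]
  · rw [gauss_prod, hs, hs']
  · rw [orderOf_injective _ (oProd_injective Q Q'), Prod.orderOf_mk, hg, hg']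

omit [CharP F 2] in
theorem exists_ext (e : ℕ) [Fact (Nat.Prime 2)] [CharP F 2] [NeZero e] :
    Nat.card (FiniteField.Extension F 2 e) = Fintype.card F ^ e := by
  rw [FiniteField.natCard_extension, Nat.card_eq_fintype_card]

/-- The split torus. -/
theorem torus_plus (e : ℕ) (he : 1 ≤ e) : HasElt F e ((Fintype.card F : ℤ) ^ e) (Fintype.card F ^ e - 1) := by
  haveI : Fact (Nat.Prime 2) := ⟨Nat.prime_two⟩
  haveI : NeZero e := ⟨by omega⟩
  haveI : NeZero (e : ℕ) := ⟨by omega⟩
  let K := FiniteField.Extension F 2 e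
  haveI : Finite K := Module.finite_of_finite F
  haveI := Fintype.ofFinite K
  have hK : Nat.card K = Fintype.card F ^ e := exists_ext e
  let β : K →ₗ[F] K →ₗ[F] F := Algebra.traceForm F K
  have hβ : ∀ a, (∀ b, β a b = 0) → a = 0 := (traceForm_nondegenerate F K).1
  let Q : QuadraticForm F (K × K) :=
    LinearMap.BilinMap.toQuadraticMap (β.compl₁₂ (LinearMap.fst F K K) (LinearMap.snd F K K))
  have hQ : ∀ a b, Q (a, b) = β a b := fun a b => rfl
  have hpol : ∀ x y : K × K, polar Q x y = β x.1 y.2 + β y.1 x.2 := fun x y => by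
    obtain ⟨a, b⟩ := x; obtain ⟨c, d⟩ := y
    rw [polar, Prod.mk_add_mk, hQ, hQ, hQ, map_add, map_add, LinearMap.add_apply, LinearMap.add_apply]
    ring
  have hnd : (polarBilin Q).Nondegenerate := by
    refine nondeg_of fun x hx => Prod.ext (hβ _ fun b => ?_) ?_
    · have := hx (0, b)
      rwa [hpol, map_zero, LinearMap.zero_apply, add_zero] at this
    · refine hβ _ fun a => ?_
      have := hx (a, 0)
      rw [hpol, map_zero, zero_add] at this
      show Algebra.traceForm F K x.2 a = 0
      rw [Algebra.traceForm_apply, mul_comm, ← Algebra.traceForm_apply]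
      exact this
  let ρ : Kˣ →* oGroup Q :=
    { toFun := fun u => ⟨((LinearEquiv.smulOfUnit u).restrictScalars F).prodCongr ((LinearEquiv.smulOfUnit u⁻¹).restrictScalars F),
        fun x => by
          show Q ((u : K) * x.1, ((u⁻¹ : Kˣ) : K) * x.2) = Q (x.1, x.2)
          rw [hQ, hQ]
          show Algebra.trace F K (((u : K) * x.1) * (((u⁻¹ : Kˣ) : K) * x.2)) = Algebra.trace F K (x.1 * x.2)
          rw [mul_mul_mul_comm, Units.mul_inv, one_mul]⟩
      map_one' := Subtype.ext (LinearEquiv.ext fun x => by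
        show ((1 : K) * x.1, (((1 : Kˣ)⁻¹ : Kˣ) : K) * x.2) = x
        rw [inv_one, Units.val_one, one_mul, one_mul])
      map_mul' := fun a b => Subtype.ext (LinearEquiv.ext fun x => by
        show (((a * b : Kˣ) : K) * x.1, (((a * b)⁻¹ : Kˣ) : K) * x.2) = ((a : K) * ((b : K) * x.1), ((a⁻¹ : Kˣ) : K) * (((b⁻¹ : Kˣ) : K) * x.2))
        rw [mul_inv, Units.val_mul, Units.val_mul, mul_assoc, mul_assoc]) }
  have hρ : Function.Injective ρ := fun a b h => by
    have := congrArg Prod.fst (LinearEquiv.congr_fun (congrArg Subtype.val h) ((1 : K), (0 : K)))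
    change (a : K) * 1 = (b : K) * 1 at this
    rw [mul_one, mul_one] at this
    exact Units.ext this
  obtain ⟨u, hu⟩ := IsCyclic.exists_ofOrder_eq_natCard (α := Kˣ)
  refine HasElt.of hnd ?_ ?_ (ρ u) ?_
  · rw [Module.finrank_prod, FiniteField.finrank_extension, two_mul]
  · rw [gauss_pairing β hβ Q hQ, hK, Nat.cast_pow]
  · rw [orderOf_injective ρ hρ, hu, Nat.card_units, hK]

/-- The non-split torus. -/
theorem torus_minus (e : ℕ) (he : 1 ≤ e) : HasElt F e (-(Fintype.card F : ℤ) ^ e) (Fintype.card F ^ e + 1) := by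
  classical
  haveI : Fact (Nat.Prime 2) := ⟨Nat.prime_two⟩
  haveI : NeZero (2 * e) := ⟨by omega⟩
  let L := FiniteField.Extension F 2 (2 * e)
  haveI : Finite L := Module.finite_of_finite F
  haveI := Fintype.ofFinite L
  haveI : CharP L 2 := charP_of_injective_algebraMap (algebraMap F L).injective 2
  set q := Fintype.card F with hq
  have hq2 : 2 ≤ q := Fintype.one_lt_card
  set Q0 := q ^ e with hQ0
  have hQ02 : 2 ≤ Q0 := hq2.trans (Nat.le_self_pow (by omega) q)
  have hL : Fintype.card L = Q0 * Q0 := by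
    rw [← Nat.card_eq_fintype_card, exists_ext, hQ0, ← pow_add, two_mul]
  let σ : L →ₐ[F] L := (FiniteField.frobeniusAlgHom F L) ^ e
  have hσ : ∀ x, σ x = x ^ Q0 := by
    intro x
    show ((FiniteField.frobeniusAlgHom F L) ^ e) x = x ^ Q0
    rw [AlgHom.coe_pow, FiniteField.coe_frobeniusAlgHom, pow_iterate]
  have hσσ : ∀ x, σ (σ x) = x := fun x => by rw [hσ, hσ, ← pow_mul, ← hL, FiniteField.pow_card]
  let σe : L ≃ₐ[F] L := AlgEquiv.ofAlgHom σ σ (AlgHom.ext hσσ) (AlgHom.ext hσσ)
  have htr : ∀ a, Algebra.trace F L (σ a) = Algebra.trace F L a := fun a => Algebra.trace_eq_of_algEquiv σe a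
  -- the coefficient
  obtain ⟨c, hc⟩ : ∃ c, c + σ c = 1 := by
    obtain ⟨y, hy⟩ : ∃ y, y + σ y ≠ 0 := by
      by_contra h
      push Not at h
      have h1 := IsCyclic.exists_ofOrder_eq_natCard (α := Lˣ)
      obtain ⟨g, hg⟩ := h1
      have h2 : g ^ (Q0 - 1) = 1 := by
        refine Units.ext (mul_right_cancel₀ g.ne_zero ?_)
        rw [Units.val_pow_eq_pow_val, ← pow_succ, Nat.sub_add_cancel (by omega), ← hσ, Units.val_one, one_mul]
        exact (CharTwo.add_eq_zero.1 (h g)).symm
      have h3 := Nat.le_of_dvd (by omega) (orderOf_dvd_of_pow_eq_one h2)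
      rw [hg, Nat.card_units, Nat.card_eq_fintype_card, hL] at h3
      have : Q0 * 2 ≤ Q0 * Q0 := Nat.mul_le_mul_left _ hQ02
      omega
    refine ⟨y / (y + σ y), ?_⟩
    rw [map_div₀, map_add, hσσ, add_comm (σ y) y, ← add_div, div_self hy]
  let B : L →ₗ[F] L →ₗ[F] F := LinearMap.mk₂ F (fun x y => Algebra.trace F L (c * x * σ y))
    (fun x x' y => by rw [mul_add, add_mul, map_add]) (fun a x y => by rw [mul_smul_comm, smul_mul_assoc, map_smul])
    (fun x y y' => by rw [map_add, mul_add, map_add]) (fun a x y => by rw [map_smul, mul_smul_comm, map_smul])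
  let Q : QuadraticForm F L := LinearMap.BilinMap.toQuadraticMap B
  have hQ : ∀ x, Q x = Algebra.trace F L (c * (x * σ x)) := fun x => by rw [← mul_assoc]; rfl
  have hpol : ∀ x y, polar Q x y = Algebra.trace F L (x * σ y) := fun x y => by
    rw [LinearMap.BilinMap.polar_toQuadraticMap]
    show Algebra.trace F L (c * x * σ y) + Algebra.trace F L (c * y * σ x) = _
    rw [← htr (c * y * σ x), map_mul σ, map_mul σ, hσσ, ← map_add,
      show c * x * σ y + σ c * σ y * x = (c + σ c) * (x * σ y) by ring, hc, one_mul]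
  have hnd : (polarBilin Q).Nondegenerate := by
    refine nondeg_of fun x hx => (traceForm_nondegenerate F L).1 x fun b => ?_
    have := hx (σ b)
    rwa [hpol, hσσ] at this
  -- the norm
  let nm : Lˣ →* Lˣ := powMonoidHom (Q0 + 1)
  have hnm : ∀ u : Lˣ, ((nm u : Lˣ) : L) = u * σ u := fun u => by
    rw [powMonoidHom_apply, Units.val_pow_eq_pow_val, hσ, pow_succ']
  let Fix : Set Lˣ := {z | z ^ (Q0 - 1) = 1}
  have hker : Nat.card nm.ker ≤ Q0 + 1 := by
    rw [Nat.card_eq_fintype_card]
    refine le_trans (le_of_eq ?_) (IsCyclic.card_pow_eq_one_le (α := Lˣ) (n := Q0 + 1) (by omega))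
    rw [Fintype.card_subtype]
    exact congrArg Finset.card (Finset.filter_congr fun x _ => by rw [MonoidHom.mem_ker, powMonoidHom_apply])
  have hrange : ∀ z ∈ nm.range, z ∈ Fix := by
    rintro _ ⟨u, rfl⟩
    show (u ^ (Q0 + 1)) ^ (Q0 - 1) = 1
    have : (Q0 + 1) * (Q0 - 1) = Fintype.card L - 1 := by
      rw [hL, ← Nat.sq_sub_sq, one_pow, _root_.sq]
    rw [← pow_mul, this, ← Fintype.card_units]
    exact pow_card_eq_one
  have hfix : Nat.card Fix ≤ Q0 - 1 := by
    rw [Nat.card_eq_fintype_card]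
    refine le_trans (le_of_eq ?_) (IsCyclic.card_pow_eq_one_le (α := Lˣ) (n := Q0 - 1) (by omega))
    rw [Fintype.card_subtype]
    rfl
  have hcards : Nat.card nm.ker * Nat.card nm.range = (Q0 + 1) * (Q0 - 1) := by
    rw [← Subgroup.index_ker, Subgroup.card_mul_index, Nat.card_units, Nat.card_eq_fintype_card, hL,
      ← Nat.sq_sub_sq, one_pow, _root_.sq]
  have hle : Nat.card nm.range ≤ Nat.card Fix :=
    Nat.card_le_card_of_injective (fun z => ⟨z.1, hrange z.1 z.2⟩) fun a b h => Subtype.ext (congrArg (·.1) h)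
  have hker' : Nat.card nm.ker = Q0 + 1 := by
    refine le_antisymm hker ?_
    by_contra h
    have := Nat.mul_lt_mul_of_lt_of_le (not_le.1 h) (hle.trans hfix) (by omega)
    omega
  have hrange' : ∀ z, z ∈ nm.range ↔ z ∈ Fix := by
    refine fun z => ⟨hrange z, fun hz => ?_⟩
    have hcr : Nat.card nm.range = Q0 - 1 := by
      rw [hker'] at hcards
      exact Nat.eq_of_mul_eq_mul_left (by omega) hcards
    have heq := Set.eq_of_subset_of_ncard_le (s := (nm.range : Set Lˣ)) (t := Fix) (fun w hw => hrange w hw)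
      (le_trans (by rw [← Nat.card_coe_set_eq]; exact hfix) (le_of_eq hcr.symm))
    show z ∈ (nm.range : Set Lˣ)
    rw [heq]; exact hz
  -- the Gauss sum
  let K : AddSubgroup L := { carrier := {z | σ z = z}
                             add_mem' := fun {a b} ha hb => by
                               show σ (a + b) = a + b
                               rw [map_add, ha, hb]
                             zero_mem' := map_zero σ
                             neg_mem' := fun {a} ha => by
                               show σ (-a) = -a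
                               rw [map_neg, ha] }
  let f : L →ₗ[F] F := (Algebra.trace F L).comp (LinearMap.mulLeft F c)
  have hf : ∀ z, f z = Algebra.trace F L (c * z) := fun z => rfl
  have hneg : ∃ z : K, psi (f z) = -1 := by
    by_contra h
    push Not at h
    have h0 : ∀ z, σ z = z → f z = 0 := fun z hz => by
      by_contra hne
      obtain ⟨x, hx⟩ := psi_exists (F := F)
      refine h ⟨(x / f z) • z, by show σ _ = _; rw [map_smul, hz]⟩ ?_
      show psi (f ((x / f z) • z)) = -1
      rw [map_smul, smul_eq_mul, div_mul_cancel₀ _ hne, hx]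
    refine Algebra.trace_ne_zero F L (LinearMap.ext fun y => ?_)
    have h1 := h0 (y + σ y) (by rw [map_add, hσσ, add_comm])
    rw [hf, mul_add, map_add, ← htr (c * σ y), map_mul σ, hσσ, ← map_add, ← add_mul, hc, one_mul] at h1
    exact h1
  have hsumK : ∑ z : K, psi (f z) = 0 := sum_psi (f.toAddMonoidHom.comp K.subtype) hneg
  have hgauss : gauss Q = -(Q0 : ℤ) := by
    rw [gauss_eq, ← Finset.add_sum_erase _ _ (Finset.mem_univ (0 : L)), map_zero, psi_zero]
    have e1 : ∑ x ∈ Finset.univ.erase (0 : L), psi (Q x) = ∑ u : Lˣ, psi (f (nm u : Lˣ)) :=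
      Finset.sum_bij' (fun x hx => Units.mk0 x (Finset.ne_of_mem_erase hx)) (fun u _ => (u : L))
        (fun x hx => Finset.mem_univ _) (fun u _ => Finset.mem_erase.2 ⟨u.ne_zero, Finset.mem_univ _⟩)
        (fun x hx => rfl) (fun u _ => Units.ext rfl) (fun x hx => by rw [hQ, hf, hnm, Units.val_mk0])
    have e2 : ∑ u : Lˣ, psi (f (nm u : Lˣ)) = ((Q0 + 1 : ℕ) : ℤ) * ∑ z ∈ Finset.univ.image nm, psi (f (z : Lˣ)) := by
      rw [Finset.sum_comp (fun z : Lˣ => psi (f (z : L))) nm, Finset.mul_sum]
      refine Finset.sum_congr rfl fun z hz => ?_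
      obtain ⟨u, -, rfl⟩ := Finset.mem_image.1 hz
      rw [nsmul_eq_mul, ← hker']
      congr 2
      rw [MonoidHom.card_fiber_eq_of_mem_range nm ⟨u, rfl⟩ ⟨1, map_one nm⟩, Nat.card_eq_fintype_card, Fintype.card_subtype]
      exact congrArg Finset.card (Finset.filter_congr fun x _ => by rw [MonoidHom.mem_ker])
    have e3 : ∑ z ∈ Finset.univ.image nm, psi (f (z : Lˣ)) = -1 := by
      have h := hsumK
      rw [← Finset.add_sum_erase _ _ (Finset.mem_univ (0 : K))] at h
      rw [show psi (f ((0 : K) : L)) = 1 by rw [ZeroMemClass.coe_zero, map_zero, psi_zero]] at h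
      have e : ∑ z ∈ Finset.univ.erase (0 : K), psi (f (z : L)) = ∑ z ∈ Finset.univ.image nm, psi (f (z : Lˣ)) := by
        refine Finset.sum_bij' (fun z hz => Units.mk0 (z : L) fun e => Finset.ne_of_mem_erase hz (Subtype.ext e))
          (fun w hw => ⟨(w : L), ?_⟩) ?_ ?_ (fun z hz => rfl) (fun w hw => Units.ext rfl) (fun z hz => rfl)
        · obtain ⟨u, -, rfl⟩ := Finset.mem_image.1 hw
          show σ _ = _
          rw [hnm, map_mul, hσσ, mul_comm]
        · intro z hz
          rw [Finset.mem_image]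
          obtain ⟨u, hu⟩ := (hrange' (Units.mk0 (z : L) fun e => Finset.ne_of_mem_erase hz (Subtype.ext e))).2 (by
            refine Units.ext (mul_right_cancel₀ (show (z : L) ≠ 0 from fun e => Finset.ne_of_mem_erase hz (Subtype.ext e)) ?_)
            rw [Units.val_pow_eq_pow_val, Units.val_mk0, ← pow_succ, Nat.sub_add_cancel (by omega), Units.val_one, one_mul, ← hσ]
            exact z.2)
          exact ⟨u, Finset.mem_univ _, hu⟩
        · intro w hw
          exact Finset.mem_erase.2 ⟨fun e => w.ne_zero (congrArg Subtype.val e), Finset.mem_univ _⟩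
      rw [e] at h
      linarith
    rw [e1, e2, e3]
    push_cast
    ring
  -- the element
  let ρ : nm.ker →* oGroup Q :=
    { toFun := fun u => ⟨(LinearEquiv.smulOfUnit (u : Lˣ)).restrictScalars F, fun x => by
        show Q (((u : Lˣ) : L) * x) = Q x
        have h1 : ((u : Lˣ) : L) * σ (u : Lˣ) = 1 := by rw [← hnm, MonoidHom.mem_ker.1 u.2, Units.val_one]
        rw [hQ, hQ, map_mul σ, show ((u : Lˣ) : L) * x * (σ (u : Lˣ) * σ x) = (((u : Lˣ) : L) * σ (u : Lˣ)) * (x * σ x) by ring, h1, one_mul]⟩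
      map_one' := Subtype.ext (LinearEquiv.ext fun x => one_mul x)
      map_mul' := fun a b => Subtype.ext (LinearEquiv.ext fun x => mul_assoc _ _ x) }
  have hρ : Function.Injective ρ := fun a b h => by
    have := LinearEquiv.congr_fun (congrArg Subtype.val h) (1 : L)
    change ((a : Lˣ) : L) * 1 = ((b : Lˣ) : L) * 1 at this
    rw [mul_one, mul_one] at this
    exact Subtype.ext (Units.ext this)
  obtain ⟨u, hu⟩ := IsCyclic.exists_ofOrder_eq_natCard (α := nm.ker)
  exact HasElt.of hnd (FiniteField.finrank_extension F 2 (2 * e)) (by rw [hgauss, hQ0, Nat.cast_pow]) (ρ u)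
    (by rw [orderOf_injective ρ hρ, hu, hker'])

end Cfsg.Agent.EvenSymp
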