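/-
In characteristic two the parity of an isometry is the parity of the rank of `g - 1`.
-/
import Cfsg.Agent.Lib.Orthogonal.CharTwoInv.Parity

set_option autoImplicit false
set_option linter.all false

universe u v

namespace Cfsg.Agent.EvenSymp

open QuadraticMap Module Cfsg.Agent.Orth Cfsg.Agent.OrthInv2

variable {F : Type u} [Field F] [CharP F 2] [Fintype F] {V : Type v} [AddCommGroup V] [Module F V] [FiniteDimensional F V]
  {Q : QuadraticForm F V}

/-- The rank of `g - 1`. -/
noncomputable def moved (g : V ≃ₗ[F] V) : ℕ := finrank F (LinearMap.range (g.toLinearMap - LinearMap.id))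

omit [Fintype F] in
theorem moved_apply (g : V ≃ₗ[F] V) (x : V) : (g.toLinearMap - LinearMap.id : V →ₗ[F] V) x = g x - x := rfl

theorem parity_eq (hQ : (polarBilin Q).Nondegenerate) (h : Fintype.card F ≠ 2 ∨ finrank F V ≠ 4)
    (χ : oGroup Q →* SpinVal F) (hχ : ∀ (r : oGroup Q) (v : V), IsRefl r.1 Q v → χ r = reflVal Q v) :
    ∀ (n : ℕ) (g : oGroup Q), moved g.1 = n → (χ g).1 = Multiplicative.ofAdd (n : ZMod 2) := by
  have hadd : ∀ a b : V, a - b = a + b := fun a b => v_sub_eq_add Q a b
  intro n
  induction n using Nat.strong_induction_on with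
  | _ n ih =>
    intro g hn
    set N : V →ₗ[F] V := g.1.toLinearMap - LinearMap.id with hN
    have hNa : ∀ x, N x = g.1 x - x := fun x => rfl
    have hg : ∀ x, g.1 x = x + N x := fun x => by rw [hNa, add_sub_cancel]
    have hval : ∀ x, Q (N x) = polar Q x (N x) := fun x => by
      have h1 := g.2 x
      rw [hg, q_add] at h1
      have h2 : (2 : F) = 0 := CharTwo.two_eq_zero
      linear_combination h1 - polar Q x (N x) * h2
    have hmove : ∀ x y, polar Q (N x) y + polar Q x (N y) + polar Q (N x) (N y) = 0 := fun x y => by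
      have h1 := b_map g.2 x y
      rw [hg, hg, b_add_left, b_add_right, b_add_right] at h1
      linear_combination h1
    by_cases hs : ∀ x, Q (N x) = 0
    · have hinv : IsInv Q N := by
        refine ⟨fun x => eq_zero_of_b hQ fun z => ?_, hval⟩
        have h0 : ∀ a b, polar Q (N a) (N b) = 0 := fun a b => by
          have := hs (a + b)
          rw [map_add, q_add, hs, hs] at this
          simpa using this
        have h1 := hmove (N x) z
        rw [h0, h0, add_zero, add_zero] at h1
        exact h1
      rw [chi_invol hQ h χ hχ hinv hg, ← hn]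
      rfl
    push Not at hs
    obtain ⟨x, hx⟩ := hs
    obtain ⟨r, hr, hr'⟩ := exists_isRefl (Q := Q) (a := N x) hx
    set g' : oGroup Q := ⟨r, hr⟩ * g with hg'
    set N' : V →ₗ[F] V := g'.1.toLinearMap - LinearMap.id with hN'
    have hN'a : ∀ z, N' z = N z - (polar Q (g.1 z) (N x) / Q (N x)) • N x := fun z => by
      show r (g.1 z) - z = _
      rw [hr'.2, hNa, hNa]; abel
    have hfix : N' x = 0 := by
      have e : polar Q (g.1 x) (N x) = Q (N x) := by
        rw [hg, b_add_left, b_self, CharTwo.two_eq_zero, zero_mul, add_zero, hval]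
      rw [hN'a, e, div_self hx, one_smul, sub_self]
    have hker : LinearMap.ker N < LinearMap.ker N' := by
      refine lt_of_le_of_ne (fun z hz => ?_) (fun he => ?_)
      · rw [LinearMap.mem_ker] at hz ⊢
        have e : polar Q (g.1 z) (N x) = 0 := by
          have h1 := hmove z x
          rw [hz, b_zero_left, b_zero_left, zero_add, add_zero] at h1
          rw [hg, hz, add_zero, h1]
        rw [hN'a, e, zero_div, zero_smul, sub_zero, hz]
      · have : N x = 0 := LinearMap.mem_ker.1 (he.symm ▸ LinearMap.mem_ker.2 hfix)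
        exact hx (by rw [this, map_zero])
    have hrange : LinearMap.range N ≤ LinearMap.range N' ⊔ Submodule.span F {N x} := by
      rintro _ ⟨z, rfl⟩
      rw [show N z = N' z + (polar Q (g.1 z) (N x) / Q (N x)) • N x by rw [hN'a, sub_add_cancel]]
      exact Submodule.add_mem_sup (LinearMap.mem_range_self _ _) (Submodule.smul_mem _ _ (Submodule.mem_span_singleton_self _))
    have h1 := Submodule.finrank_lt_finrank_of_lt hker
    have h2 := LinearMap.finrank_range_add_finrank_ker N
    have h3 := LinearMap.finrank_range_add_finrank_ker N'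
    have h4 := (Submodule.finrank_mono hrange).trans (Submodule.finrank_add_le_finrank_add_finrank _ _)
    rw [finrank_span_singleton (fun e => hx (by rw [e, map_zero]))] at h4
    have hn' : moved g'.1 + 1 = n := by
      have : finrank F (LinearMap.range N) = n := hn
      show finrank F (LinearMap.range N') + 1 = n
      omega
    have hih := ih (moved g'.1) (by omega) g' rfl
    have hmul : g = ⟨r, hr⟩ * g' := by
      rw [hg', ← mul_assoc]
      rw [show (⟨r, hr⟩ : oGroup Q) * ⟨r, hr⟩ = 1 from Subtype.ext hr'.mul_self, one_mul]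
    rw [hmul, map_mul, Prod.fst_mul, hih, hχ _ _ hr', reflVal, ← hn', ← ofAdd_add, Nat.cast_add, Nat.cast_one, add_comm]

/-- The isometries moving an even-dimensional space form a subgroup. -/
theorem exists_kernel (hQ : (polarBilin Q).Nondegenerate) (h : Fintype.card F ≠ 2 ∨ finrank F V ≠ 4) :
    ∃ π : oGroup Q →* Multiplicative (ZMod 2), ∀ g, π g = 1 ↔ Even (moved g.1) := by
  obtain ⟨χ, hχ⟩ := exists_spinor hQ h
  refine ⟨(MonoidHom.fst _ _).comp χ, fun g => ?_⟩
  rw [MonoidHom.comp_apply, MonoidHom.coe_fst, parity_eq hQ h χ hχ _ g rfl, ofAdd_eq_one]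
  exact ZMod.natCast_eq_zero_iff_even

/-- An isometry of odd order moves an even-dimensional space. -/
theorem even_moved_of_odd (hQ : (polarBilin Q).Nondegenerate) (h : Fintype.card F ≠ 2 ∨ finrank F V ≠ 4)
    (g : oGroup Q) {m : ℕ} (hm : Odd m) (hg : g ^ m = 1) : Even (moved g.1) := by
  obtain ⟨π, hπ⟩ := exists_kernel hQ h
  rw [← hπ]
  have h1 := congrArg π hg
  rw [map_pow, map_one] at h1
  obtain ⟨t, rfl⟩ := hm
  have h2 : ∀ x : Multiplicative (ZMod 2), x ^ 2 = 1 := by decide
  rwa [pow_succ, pow_mul, h2, one_pow, one_mul] at h1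

end Cfsg.Agent.EvenSymp
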