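/-
Unipotent blocks on small quadratic spaces in characteristic two.
-/
import Cfsg.Agent.Lib.Isospectral.EvenSymp.Forms
import Cfsg.Agent.Lib.Isospectral.EvenSymp.Parity
import Cfsg.Agent.Lib.Isospectral.EvenSymp.Bound

set_option autoImplicit false
set_option linter.all false

universe u

namespace Cfsg.Agent.EvenSymp

open QuadraticMap Module Cfsg.Agent.Orth

variable {F : Type u} [Field F] [CharP F 2] [Fintype F]

/-- A space with a unipotent isometry having a long chain: the pieces of the extension by the module. -/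
def HasExt (F : Type u) [Field F] [CharP F 2] [Fintype F] (d : ℕ) (σ : ℤ) (k : ℕ) : Prop :=
  ∃ Q : QuadraticForm F (Fin (2 * d) → F), (polarBilin Q).Nondegenerate ∧ gauss Q = σ ∧
    ∃ g : oGroup Q, orderOf g = 2 ^ k ∧ Even (moved g.1) ∧ ∃ v, ∑ i ∈ Finset.range (2 ^ k), (g ^ i).1 v ≠ 0

theorem moved_conj {V W : Type*} [AddCommGroup V] [Module F V] [AddCommGroup W] [Module F W] [FiniteDimensional F V]
    (e : V ≃ₗ[F] W) (g : V ≃ₗ[F] V) (g' : W ≃ₗ[F] W) (h : ∀ x, g' (e x) = e (g x)) : moved g' = moved g := by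
  have he : LinearMap.range (g'.toLinearMap - LinearMap.id) =
      (LinearMap.range (g.toLinearMap - LinearMap.id)).map e.toLinearMap := by
    refine le_antisymm ?_ ?_
    · rintro _ ⟨w, rfl⟩
      obtain ⟨x, rfl⟩ := e.surjective w
      exact ⟨g x - x, ⟨x, rfl⟩, by show e (g x - x) = g' (e x) - e x; rw [map_sub, h]⟩
    · rintro _ ⟨_, ⟨x, rfl⟩, rfl⟩
      exact ⟨e x, by show g' (e x) - e x = e (g x - x); rw [map_sub, h]⟩
  rw [moved, moved, he, LinearEquiv.finrank_map_eq]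

theorem HasExt.of {W : Type*} [AddCommGroup W] [Module F W] [FiniteDimensional F W] {Q : QuadraticForm F W}
    (hQ : (polarBilin Q).Nondegenerate) {d : ℕ} (hd : finrank F W = 2 * d) {σ : ℤ} (hs : gauss Q = σ) {k : ℕ}
    (g : oGroup Q) (hg : orderOf g = 2 ^ k) (hev : Even (moved g.1))
    (v : W) (hv : ∑ i ∈ Finset.range (2 ^ k), (g ^ i).1 v ≠ 0) : HasExt F d σ k := by
  obtain ⟨e⟩ := FiniteDimensional.nonempty_linearEquiv_of_finrank_eq (R := F) (M := W) (M' := Fin (2 * d) → F)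
    (by rw [hd, Module.finrank_fin_fun])
  have h : ∀ x, (Q.comp e.symm.toLinearMap) (e x) = Q x := fun x => congrArg Q (e.symm_apply_apply x)
  have hc : ∀ (g : oGroup Q) x, (oCongr e h g).1 (e x) = e (g.1 x) := fun g x => by
    show e (g.1 (e.symm (e x))) = e (g.1 x)
    rw [e.symm_apply_apply]
  refine ⟨Q.comp e.symm.toLinearMap, nondeg_congr e h hQ, ?_, oCongr e h g, ?_, ?_, e v, ?_⟩
  · rw [← gauss_congr e fun x => (h x).symm, hs]
  · rw [MulEquiv.orderOf_eq, hg]
  · rwa [moved_conj e g.1 _ (hc g)]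
  · rw [Finset.sum_congr rfl fun i _ => by rw [← map_pow, hc (g ^ i) v], ← map_sum]
    exact fun h0 => hv (e.map_eq_zero_iff.1 h0)

theorem moved_prod {A W : Type*} [AddCommGroup A] [Module F A] [FiniteDimensional F A] [AddCommGroup W] [Module F W]
    [FiniteDimensional F W] {QA : QuadraticForm F A} {QW : QuadraticForm F W} (g : oGroup QA) (g' : oGroup QW) :
    moved (oProd QA QW (g, g')).1 = moved g.1 + moved g'.1 := by
  have he : LinearMap.range ((oProd QA QW (g, g')).1.toLinearMap - LinearMap.id) =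
      (LinearMap.range (g.1.toLinearMap - LinearMap.id)).prod (LinearMap.range (g'.1.toLinearMap - LinearMap.id)) := by
    refine le_antisymm ?_ ?_
    · rintro _ ⟨x, rfl⟩
      exact ⟨⟨x.1, rfl⟩, ⟨x.2, rfl⟩⟩
    · rintro ⟨a, b⟩ ⟨⟨x, hx⟩, ⟨y, hy⟩⟩
      exact ⟨(x, y), Prod.ext hx hy⟩
  rw [moved, moved, moved, he, ← Module.finrank_prod]
  refine LinearEquiv.finrank_eq
    { toFun := fun x => (⟨x.1.1, x.2.1⟩, ⟨x.1.2, x.2.2⟩)
      map_add' := fun a b => rfl
      map_smul' := fun c a => rfl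
      invFun := fun x => ⟨(x.1.1, x.2.1), x.1.2, x.2.2⟩
      left_inv := fun x => rfl
      right_inv := fun x => rfl }

/-- A regular unipotent block moves a hyperplane. -/
theorem moved_block {W : Type*} [AddCommGroup W] [Module F W] [FiniteDimensional F W] (g : W ≃ₗ[F] W) {d : ℕ}
    (hd : finrank F W = d + 1) {b : ℕ} (hb : ((g.toLinearMap - LinearMap.id : Module.End F W)) ^ b = 0) {x : W}
    (hx : (((g.toLinearMap - LinearMap.id : Module.End F W)) ^ d) x ≠ 0) : moved g = d := by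
  obtain ⟨-, h1, h2⟩ := chain (N := (g.toLinearMap - LinearMap.id : Module.End F W)) (E := ⊤) (fun _ _ => trivial)
    (fun y _ => by rw [hb]; rfl) d (Submodule.mem_top (x := x)) hx
  rw [Submodule.map_top] at h1 h2
  rw [finrank_top] at h2
  rw [moved]
  omega

/-- The binary form `z₀² + z₀ z₁ + ζ z₁²`. -/
abbrev qb (ζ : F) : QuadraticForm F (Fin 2 → F) := qBin F 1 ζ

theorem qb_nondeg (ζ : F) : (polarBilin (qb ζ)).Nondegenerate := by
  refine nondeg_of fun x hx => funext fun i => ?_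
  have h0 := hx ![1, 0]
  have h1 := hx ![0, 1]
  rw [qb, LBQuad.polar_qBin'] at h0 h1
  simp [CharTwo.two_eq_zero] at h0 h1
  fin_cases i
  · simpa using h1
  · simpa using h0

/-- The reflection of a plane. -/
def r2 : (Fin 2 → F) ≃ₗ[F] (Fin 2 → F) where
  toFun z := ![z 0 + z 1, z 1]
  map_add' a b := by ext i; fin_cases i <;> simp <;> ring
  map_smul' c a := by ext i; fin_cases i <;> simp <;> ring
  invFun z := ![z 0 + z 1, z 1]
  left_inv z := by
    ext i
    fin_cases i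
    · simp [add_assoc, CharTwo.add_self_eq_zero]
    · simp
  right_inv z := by
    ext i
    fin_cases i
    · simp [add_assoc, CharTwo.add_self_eq_zero]
    · simp

theorem r2_mem (ζ : F) : (r2 : (Fin 2 → F) ≃ₗ[F] (Fin 2 → F)) ∈ oGroup (qb ζ) := fun z => by
  show qb ζ ![z 0 + z 1, z 1] = qb ζ z
  simp only [qb, qBin_apply, Matrix.cons_val_zero, Matrix.cons_val_one]
  linear_combination (z 1 ^ 2 + z 0 * z 1) * (CharTwo.two_eq_zero (R := F))

/-- The reflection as an element of the isometry group. -/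
def r2o (ζ : F) : oGroup (qb ζ) := ⟨r2, r2_mem ζ⟩

theorem order_r2 (ζ : F) : orderOf (r2o ζ) = 2 := by
  refine orderOf_eq_prime (p := 2) ?_ ?_
  · refine Subtype.ext (LinearEquiv.ext fun z => ?_)
    show r2 (r2 z) = z
    exact r2.left_inv z
  · intro h
    have := congrFun (LinearEquiv.congr_fun (congrArg Subtype.val h) ![0, 1]) 0
    simp [r2o, r2] at this

theorem moved_r2 (ζ : F) : moved (r2o ζ).1 = 1 := by
  refine moved_block _ (d := 1) (Module.finrank_fin_fun F) (b := 2) ?_ (x := ![0, 1]) ?_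
  · rw [pow_two]
    refine LinearMap.ext fun z => ?_
    show r2 (r2 z - z) - (r2 z - z) = 0
    rw [map_sub, show r2 (r2 z) = z from r2.left_inv z]
    ext i
    simp only [Pi.sub_apply, Pi.zero_apply]
    linear_combination (z i - (r2 z) i) * (CharTwo.two_eq_zero (R := F))
  · rw [pow_one]
    intro h
    have := congrFun h 0
    simp [r2o, r2] at this

theorem gauss_qb_zero : gauss (qb (0 : F)) = (Fintype.card F : ℤ) := by
  let e : (Fin 2 → F) ≃ₗ[F] F × F :=
    { toFun := fun z => (z 0, z 0 + z 1)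
      map_add' := fun a b => Prod.ext rfl (by simp; ring)
      map_smul' := fun c a => Prod.ext rfl (by simp; ring)
      invFun := fun p => ![p.1, p.2 - p.1]
      left_inv := fun z => by ext i; fin_cases i <;> simp
      right_inv := fun p => by simp }
  rw [gauss_congr (Q := qb (0 : F)) e (R := (qb (0 : F)).comp e.symm.toLinearMap) (fun v => by
    show _ = qb 0 (e.symm (e v)); rw [LinearEquiv.symm_apply_apply])]
  rw [gauss_pairing (LinearMap.mul F F) (fun a h => by simpa using h 1) ((qb (0 : F)).comp e.symm.toLinearMap) (fun a b => ?_),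
    Nat.card_eq_fintype_card]
  show qb 0 ![a, b - a] = a * b
  simp [qb, qBin_apply]
  ring

theorem gauss_qb_aniso {ζ : F} (hζ : ∀ t : F, t ^ 2 + t + ζ ≠ 0) : gauss (qb ζ) = -(Fintype.card F : ℤ) := by
  classical
  have han : ∀ v, qb ζ v = 0 → v = 0 := fun v h => LBQuad.qBin_eq_zero (LBQuad.bin_aniso hζ) h
  have hv : (![1, 0] : Fin 2 → F) ≠ 0 := fun h => one_ne_zero (congrFun h 0)
  -- all non-zero values are taken equally often
  have hfib : ∀ t : F, t ≠ 0 → (Finset.univ.filter fun v => qb ζ v = t).card = (Finset.univ.filter fun v => qb ζ v = 1).card := by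
    intro t ht
    obtain ⟨s, hs⟩ := LBSpOrth.sq_surj t
    have hs0 : s ≠ 0 := fun e => ht (by rw [← hs, e]; ring)
    refine Finset.card_bij' (fun v _ => s⁻¹ • v) (fun v _ => s • v) ?_ ?_ (fun v _ => smul_inv_smul₀ hs0 v) (fun v _ => inv_smul_smul₀ hs0 v)
    · intro v hv
      simp only [Finset.mem_filter, Finset.mem_univ, true_and] at hv ⊢
      rw [q_smul, hv, ← hs]; field_simp
    · intro v hv
      simp only [Finset.mem_filter, Finset.mem_univ, true_and] at hv ⊢
      rw [q_smul, hv, ← hs]; ring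
  set N := (Finset.univ.filter fun v => qb ζ v = 1).card with hN
  have hz : (Finset.univ.filter fun v => qb ζ v = 0) = {0} := by
    ext v
    simp only [Finset.mem_filter, Finset.mem_univ, true_and, Finset.mem_singleton]
    exact ⟨han v, fun h => by rw [h, map_zero]⟩
  have hsum : gauss (qb ζ) = 1 + (N : ℤ) * (∑ t ∈ Finset.univ.erase (0 : F), psi t) := by
    rw [gauss_eq, ← Finset.sum_fiberwise Finset.univ (fun v => qb ζ v) fun v => psi (qb ζ v),
      ← Finset.add_sum_erase _ _ (Finset.mem_univ (0 : F)), hz, Finset.sum_singleton, map_zero, psi_zero, Finset.mul_sum]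
    refine congrArg₂ (· + ·) rfl (Finset.sum_congr rfl fun t ht => ?_)
    rw [Finset.sum_congr rfl fun v hv => by rw [(Finset.mem_filter.1 hv).2], Finset.sum_const, hfib t (Finset.ne_of_mem_erase ht),
      nsmul_eq_mul]
  have hcount : 1 + (Fintype.card F - 1) * N = Fintype.card F * Fintype.card F := by
    have h := Finset.card_eq_sum_card_fiberwise (f := fun v => qb ζ v) (s := Finset.univ) (t := Finset.univ)
      (fun v _ => Finset.mem_univ _)
    rw [← Finset.add_sum_erase _ _ (Finset.mem_univ (0 : F)), hz, Finset.card_singleton,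
      Finset.sum_congr rfl (fun t ht => hfib t (Finset.ne_of_mem_erase ht)), Finset.sum_const,
      Finset.card_erase_of_mem (Finset.mem_univ _), Finset.card_univ, Finset.card_univ, smul_eq_mul, Fintype.card_fun,
      Fintype.card_fin, _root_.sq] at h
    exact h.symm
  have hpsi : ∑ t ∈ Finset.univ.erase (0 : F), psi t = -1 := by
    have h := sum_psi (AddMonoidHom.id F) (psi_exists (F := F))
    rw [← Finset.add_sum_erase _ _ (Finset.mem_univ (0 : F)), AddMonoidHom.id_apply, psi_zero] at h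
    simp only [AddMonoidHom.id_apply] at h
    linarith
  have hN' : N = Fintype.card F + 1 := by
    obtain ⟨t, ht⟩ : ∃ t, Fintype.card F = t + 2 := ⟨_, (Nat.sub_add_cancel (Fintype.one_lt_card (α := F))).symm⟩
    rw [ht, show t + 2 - 1 = t + 1 by omega] at hcount
    rw [ht]
    refine Nat.eq_of_mul_eq_mul_left (show 0 < t + 1 by omega) ?_
    have e : (t + 2) * (t + 2) = 1 + (t + 1) * (t + 2 + 1) := by ring
    omega
  rw [hsum, hpsi, hN']
  push_cast
  ring

/-- The four-dimensional hyperbolic space. -/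
abbrev V4 (F : Type u) := (F × F) × (F × F)

/-- The dot product on pairs. -/
def dot : F × F →ₗ[F] F × F →ₗ[F] F :=
  LinearMap.mk₂ F (fun a b => a.1 * b.1 + a.2 * b.2) (fun a a' b => by simp; ring) (fun c a b => by simp; ring)
    (fun a b b' => by simp; ring) (fun c a b => by simp; ring)

/-- Its quadratic form. -/
def q4 : QuadraticForm F (V4 F) :=
  LinearMap.BilinMap.toQuadraticMap ((dot (F := F)).compl₁₂ (LinearMap.fst F _ _) (LinearMap.snd F _ _))

theorem q4_apply (v : V4 F) : q4 v = v.1.1 * v.2.1 + v.1.2 * v.2.2 := rfl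

theorem q4_nondeg : (polarBilin (q4 (F := F))).Nondegenerate := by
  refine nondeg_of fun x hx => ?_
  have h1 := hx ((1, 0), (0, 0))
  have h2 := hx ((0, 1), (0, 0))
  have h3 := hx ((0, 0), (1, 0))
  have h4 := hx ((0, 0), (0, 1))
  simp [polar, q4_apply, Prod.fst_add, Prod.snd_add] at h1 h2 h3 h4
  ring_nf at h1 h2 h3 h4
  exact Prod.ext (Prod.ext h3 h4) (Prod.ext h1 h2)

theorem finrank_v4 : finrank F (V4 F) = 4 := by simp [Module.finrank_prod]

theorem gauss_q4 : gauss (q4 (F := F)) = (Fintype.card F : ℤ) ^ 2 := by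
  rw [gauss_pairing (dot (F := F)) (fun a h => by
    have h1 := h (1, 0); have h2 := h (0, 1)
    simp [dot] at h1 h2
    exact Prod.ext h1 h2) q4 (fun a b => rfl), Nat.card_prod, Nat.card_eq_fintype_card]
  push_cast
  ring

/-- A regular unipotent isometry in dimension four. -/
def u4 : V4 F ≃ₗ[F] V4 F where
  toFun v := ((v.1.1 + v.1.2, v.2.1 + v.2.2), (v.2.1, v.1.2))
  map_add' a b := by ext <;> simp <;> ring
  map_smul' c a := by ext <;> simp <;> ring
  invFun v := ((v.1.1 + v.2.2, v.2.2), (v.2.1, v.1.2 + v.2.1))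
  left_inv v := by
    refine Prod.ext (Prod.ext ?_ rfl) (Prod.ext rfl ?_)
    · show v.1.1 + v.1.2 + v.1.2 = v.1.1
      rw [add_assoc, CharTwo.add_self_eq_zero, add_zero]
    · show v.2.1 + v.2.2 + v.2.1 = v.2.2
      rw [add_comm v.2.1, add_assoc, CharTwo.add_self_eq_zero, add_zero]
  right_inv v := by
    refine Prod.ext (Prod.ext ?_ ?_) rfl
    · show v.1.1 + v.2.2 + v.2.2 = v.1.1
      rw [add_assoc, CharTwo.add_self_eq_zero, add_zero]
    · show v.2.1 + (v.1.2 + v.2.1) = v.1.2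
      rw [add_comm, add_assoc, CharTwo.add_self_eq_zero, add_zero]

/-- Normalisation of a coordinate identity in characteristic two. -/
theorem two_zero' : (2 : F) = 0 := CharTwo.two_eq_zero

/-- The regular unipotent as an element of the isometry group. -/
def u4o : oGroup (q4 (F := F)) := ⟨u4, fun v => by
  show q4 ((v.1.1 + v.1.2, v.2.1 + v.2.2), (v.2.1, v.1.2)) = q4 v
  rw [q4_apply, q4_apply]
  linear_combination (v.1.2 * v.2.1) * two_zero' (F := F)⟩

theorem u4_sq (v : V4 F) : u4 (u4 v) = ((v.1.1 + v.1.2 + v.2.1 + v.2.2, v.2.1 + v.1.2), (v.2.1, v.2.1 + v.2.2)) := by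
  simp [u4, add_assoc]

theorem u4_four (v : V4 F) : u4 (u4 (u4 (u4 v))) = v := by
  rw [u4_sq (u4 (u4 v)), u4_sq]
  ext
  · show v.1.1 + v.1.2 + v.2.1 + v.2.2 + (v.2.1 + v.1.2) + v.2.1 + (v.2.1 + v.2.2) = v.1.1
    linear_combination (v.1.2 + 2 * v.2.1 + v.2.2) * two_zero' (F := F)
  · show v.2.1 + (v.2.1 + v.1.2) = v.1.2
    linear_combination v.2.1 * two_zero' (F := F)
  · rfl
  · show v.2.1 + (v.2.1 + v.2.2) = v.2.2
    linear_combination v.2.1 * two_zero' (F := F)

theorem order_u4 : orderOf (u4o (F := F)) = 4 := by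
  refine orderOf_eq_prime_pow (p := 2) (n := 1) ?_ ?_
  · intro h
    have := congrArg (fun v : V4 F => v.2.2) (LinearEquiv.congr_fun (congrArg Subtype.val h) ((0, 0), (1, 0)))
    change (u4 (u4 (((0, 0), (1, 0)) : V4 F))).2.2 = 0 at this
    rw [u4_sq] at this
    simp at this
  · refine Subtype.ext (LinearEquiv.ext fun v => ?_)
    exact u4_four v

theorem n4_three : ((u4.toLinearMap - LinearMap.id : Module.End F (V4 F)) ^ 3) ((0, 0), (1, 0)) ≠ 0 := by
  simp [pow_succ, Module.End.mul_apply, u4, CharTwo.add_self_eq_zero, sub_eq_add_neg, CharTwo.neg_eq]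

theorem n4_four : (u4.toLinearMap - LinearMap.id : Module.End F (V4 F)) ^ 4 = 0 := by
  refine LinearMap.ext fun v => ?_
  simp only [pow_succ, pow_zero, one_mul, Module.End.mul_apply, LinearMap.sub_apply, LinearEquiv.coe_coe, LinearMap.id_apply,
    map_sub, LinearMap.zero_apply]
  rw [u4_four]
  ext <;> simp [u4] <;> ring_nf <;> simp [two_zero', show (4 : F) = 0 by linear_combination (2 : F) * two_zero' (F := F),
    show (6 : F) = 0 by linear_combination (3 : F) * two_zero' (F := F),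
    show (8 : F) = 0 by linear_combination (4 : F) * two_zero' (F := F)]

theorem moved_u4 : moved (u4o (F := F)).1 = 3 := moved_block _ (d := 3) finrank_v4 n4_four n4_three

/-- The six-dimensional space. -/
abbrev q6 (ζ : F) : QuadraticForm F (V4 F × (Fin 2 → F)) := q4.prod (qb ζ)

/-- The underlying map of a regular unipotent isometry in dimension six. -/
def u6f (ζ : F) : Module.End F (V4 F × (Fin 2 → F)) where
  toFun v := (((v.1.1.1 + v.1.1.2 + (ζ * v.1.2.2 + v.2 0 + v.2 1), v.1.1.2 + (ζ * v.1.2.2 + v.2 0 + v.2 1)),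
    (v.1.2.1, v.1.2.1 + v.1.2.2)), ![v.2 0 + v.2 1, v.1.2.2 + v.2 1])
  map_add' a b := by
    refine Prod.ext (Prod.ext (Prod.ext ?_ ?_) (Prod.ext ?_ ?_)) (funext fun i => ?_)
    all_goals first
      | (simp; ring)
      | (fin_cases i <;> simp <;> ring)
      | simp
  map_smul' c a := by
    refine Prod.ext (Prod.ext (Prod.ext ?_ ?_) (Prod.ext ?_ ?_)) (funext fun i => ?_)
    all_goals first
      | (simp; ring)
      | (fin_cases i <;> simp <;> ring)
      | simp

theorem u6_sq (ζ : F) (v : V4 F × (Fin 2 → F)) : u6f ζ (u6f ζ v) =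
    (((v.1.1.1 + ζ * v.1.2.1 + (ζ + 1) * v.1.2.2 + v.2 0, v.1.1.2 + ζ * v.1.2.1 + v.1.2.2 + v.2 1),
      (v.1.2.1, v.1.2.2)), ![v.2 0 + v.1.2.2, v.2 1 + v.1.2.1]) := by
  have h2 := two_zero' (F := F)
  refine Prod.ext (Prod.ext (Prod.ext ?_ ?_) (Prod.ext rfl ?_)) (funext fun i => ?_)
  · simp [u6f]; linear_combination (v.1.1.2 + ζ * v.1.2.2 + v.2 0 + 2 * v.2 1) * h2
  · simp [u6f]; linear_combination (ζ * v.1.2.2 + v.2 0 + v.2 1) * h2
  · simp [u6f]; linear_combination v.1.2.1 * h2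
  · fin_cases i
    · simp [u6f]; linear_combination (v.2 1) * h2
    · simp [u6f]; linear_combination v.1.2.2 * h2

theorem u6_four (ζ : F) (v : V4 F × (Fin 2 → F)) : u6f ζ (u6f ζ (u6f ζ (u6f ζ v))) =
    (((v.1.1.1 + v.1.2.2, v.1.1.2 + v.1.2.1), (v.1.2.1, v.1.2.2)), v.2) := by
  have h2 := two_zero' (F := F)
  rw [u6_sq ζ (u6f ζ (u6f ζ v)), u6_sq]
  refine Prod.ext (Prod.ext (Prod.ext ?_ ?_) rfl) (funext fun i => ?_)
  · simp; linear_combination (ζ * v.1.2.1 + (ζ + 1) * v.1.2.2 + v.2 0) * h2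
  · simp; linear_combination (ζ * v.1.2.1 + v.1.2.2 + v.2 1) * h2
  · fin_cases i
    · simp; linear_combination v.1.2.2 * h2
    · simp; linear_combination v.1.2.1 * h2

theorem u6_eight (ζ : F) (v : V4 F × (Fin 2 → F)) :
    u6f ζ (u6f ζ (u6f ζ (u6f ζ (u6f ζ (u6f ζ (u6f ζ (u6f ζ v))))))) = v := by
  rw [u6_four ζ (u6f ζ (u6f ζ (u6f ζ (u6f ζ v)))), u6_four]
  refine Prod.ext (Prod.ext (Prod.ext ?_ ?_) rfl) rfl
  · show v.1.1.1 + v.1.2.2 + v.1.2.2 = v.1.1.1
    linear_combination v.1.2.2 * two_zero' (F := F)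
  · show v.1.1.2 + v.1.2.1 + v.1.2.1 = v.1.1.2
    linear_combination v.1.2.1 * two_zero' (F := F)

theorem u6_mem (ζ : F) (v : V4 F × (Fin 2 → F)) : q6 ζ (u6f ζ v) = q6 ζ v := by
  simp only [q6, QuadraticMap.prod_apply, q4_apply, qb, qBin_apply, u6f, LinearMap.coe_mk, AddHom.coe_mk,
    Matrix.cons_val_zero, Matrix.cons_val_one]
  linear_combination (v.1.1.2 * v.1.2.1 + v.1.2.1 * (ζ * v.1.2.2 + v.2 0 + v.2 1) + v.1.2.2 * (ζ * v.1.2.2 + v.2 0 + v.2 1)
    + v.2 0 * v.2 1 + v.2 1 ^ 2 + ζ * v.1.2.2 * v.2 1) * two_zero' (F := F)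

/-- The inverse map. -/
def u6g (ζ : F) (v : V4 F × (Fin 2 → F)) : V4 F × (Fin 2 → F) :=
  (((v.1.1.1 + v.1.1.2, v.1.1.2 + ζ * v.1.2.1 + ζ * v.1.2.2 + v.2 0), (v.1.2.1, v.1.2.1 + v.1.2.2)),
    ![v.1.2.1 + v.1.2.2 + v.2 0 + v.2 1, v.1.2.1 + v.1.2.2 + v.2 1])

theorem u6_left (ζ : F) (v : V4 F × (Fin 2 → F)) : u6g ζ (u6f ζ v) = v := by
  have h2 := two_zero' (F := F)
  refine Prod.ext (Prod.ext (Prod.ext ?_ ?_) (Prod.ext rfl ?_)) (funext fun i => ?_)
  · simp [u6f, u6g]; linear_combination (v.1.1.2 + ζ * v.1.2.2 + v.2 0 + v.2 1) * h2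
  · simp [u6f, u6g]; linear_combination (ζ * v.1.2.1 + ζ * v.1.2.2 + v.2 0 + v.2 1) * h2
  · simp [u6f, u6g]; linear_combination v.1.2.1 * h2
  · fin_cases i
    · simp [u6f, u6g]; linear_combination (v.1.2.1 + v.1.2.2 + v.2 1) * h2
    · simp [u6f, u6g]; linear_combination (v.1.2.1 + v.1.2.2) * h2

theorem u6_right (ζ : F) (v : V4 F × (Fin 2 → F)) : u6f ζ (u6g ζ v) = v := by
  have h2 := two_zero' (F := F)
  refine Prod.ext (Prod.ext (Prod.ext ?_ ?_) (Prod.ext rfl ?_)) (funext fun i => ?_)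
  · simp [u6f, u6g]; linear_combination (v.1.1.2 + ζ * v.1.2.1 + ζ * v.1.2.2 + v.1.2.1 + v.1.2.2 + v.2 0 + v.2 1) * h2
  · simp [u6f, u6g]; linear_combination (ζ * v.1.2.1 + ζ * v.1.2.2 + v.1.2.1 + v.1.2.2 + v.2 0 + v.2 1) * h2
  · simp [u6f, u6g]; linear_combination v.1.2.1 * h2
  · fin_cases i
    · simp [u6f, u6g]; linear_combination (v.1.2.1 + v.1.2.2 + v.2 1) * h2
    · simp [u6f, u6g]; linear_combination (v.1.2.1 + v.1.2.2) * h2

/-- The regular unipotent as a linear equivalence. -/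
def u6e (ζ : F) : (V4 F × (Fin 2 → F)) ≃ₗ[F] (V4 F × (Fin 2 → F)) :=
  { u6f ζ with
    invFun := u6g ζ
    left_inv := u6_left ζ
    right_inv := u6_right ζ }

theorem u6e_apply (ζ : F) (v : V4 F × (Fin 2 → F)) : u6e ζ v = u6f ζ v := rfl

/-- The regular unipotent in dimension six. -/
def u6o (ζ : F) : oGroup (q6 ζ) :=
  ⟨u6e ζ, fun v => (congrArg (q6 ζ) (u6e_apply ζ v)).trans (u6_mem ζ v)⟩

theorem u6o_apply (ζ : F) (v : V4 F × (Fin 2 → F)) : (u6o ζ).1 v = u6f ζ v := u6e_apply ζ v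

theorem order_u6 (ζ : F) : orderOf (u6o ζ) = 8 := by
  have hmul : ∀ (a b : oGroup (q6 ζ)) v, (a * b).1 v = a.1 (b.1 v) := fun a b v => rfl
  have h2 : ∀ v, (u6o ζ * u6o ζ).1 v = u6f ζ (u6f ζ v) := fun v => by rw [hmul, u6o_apply, u6o_apply]
  have h4 : ∀ v, ((u6o ζ) ^ 4).1 v = u6f ζ (u6f ζ (u6f ζ (u6f ζ v))) := fun v => by
    rw [show (u6o ζ) ^ 4 = (u6o ζ * u6o ζ) * (u6o ζ * u6o ζ) by simp only [pow_succ, pow_zero, one_mul, mul_assoc], hmul, h2, h2]
  refine orderOf_eq_prime_pow (p := 2) (n := 2) ?_ ?_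
  · rw [show (2 : ℕ) ^ 2 = 4 from rfl]
    intro h
    have e := h4 (((0, 0), (1, 0)), 0)
    rw [h, u6_four] at e
    have := congrArg (fun v : V4 F × (Fin 2 → F) => v.1.1.2) e
    simp at this
  · rw [show (2 : ℕ) ^ (2 + 1) = 4 + 4 from rfl, pow_add]
    refine Subtype.ext (LinearEquiv.ext fun v => ?_)
    rw [hmul, h4, h4]
    exact u6_eight ζ v

theorem gauss_plane : ∃ ζ₀ ζ₁ : F, gauss (qb ζ₀) = (Fintype.card F : ℤ) ∧ gauss (qb ζ₁) = -(Fintype.card F : ℤ) := by
  obtain ⟨ζ, hζ⟩ := LBSpOrth.exists_nonsplit (F := F)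
  exact ⟨0, ζ, gauss_qb_zero, gauss_qb_aniso hζ⟩

theorem elt_plane (σ : ℤ) (h : σ = (Fintype.card F : ℤ) ∨ σ = -(Fintype.card F : ℤ)) : HasElt F 1 σ 2 := by
  obtain ⟨ζ₀, ζ₁, h₀, h₁⟩ := gauss_plane (F := F)
  rcases h with rfl | rfl
  · exact HasElt.of (qb_nondeg ζ₀) (Module.finrank_fin_fun F) h₀ _ (order_r2 ζ₀)
  · exact HasElt.of (qb_nondeg ζ₁) (Module.finrank_fin_fun F) h₁ _ (order_r2 ζ₁)

theorem elt_four : HasElt F 2 ((Fintype.card F : ℤ) ^ 2) 4 :=
  HasElt.of q4_nondeg finrank_v4 gauss_q4 _ order_u4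

theorem elt_six (σ : ℤ) (h : σ = (Fintype.card F : ℤ) ^ 3 ∨ σ = -(Fintype.card F : ℤ) ^ 3) : HasElt F 3 σ 8 := by
  obtain ⟨ζ₀, ζ₁, h₀, h₁⟩ := gauss_plane (F := F)
  rcases h with rfl | rfl
  · exact HasElt.of (nondeg_prod q4_nondeg (qb_nondeg ζ₀)) (by rw [Module.finrank_prod, finrank_v4, Module.finrank_fin_fun])
      (by rw [gauss_prod, gauss_q4, h₀]; ring) _ (order_u6 ζ₀)
  · exact HasElt.of (nondeg_prod q4_nondeg (qb_nondeg ζ₁)) (by rw [Module.finrank_prod, finrank_v4, Module.finrank_fin_fun])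
      (by rw [gauss_prod, gauss_q4, h₁]; ring) _ (order_u6 ζ₁)

theorem ext_plane (σ : ℤ) (h : σ = (Fintype.card F : ℤ) ∨ σ = -(Fintype.card F : ℤ)) : HasExt F 1 σ 0 := by
  obtain ⟨ζ₀, ζ₁, h₀, h₁⟩ := gauss_plane (F := F)
  have key : ∀ ζ, gauss (qb ζ) = σ → HasExt F 1 σ 0 := fun ζ hz =>
    HasExt.of (qb_nondeg ζ) (Module.finrank_fin_fun F) hz (1 : oGroup (qb ζ)) (by rw [orderOf_one, pow_zero])
      (by
        refine (show moved ((1 : oGroup (qb ζ))).1 = 0 from ?_).symm ▸ ⟨0, rfl⟩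
        rw [moved, show ((1 : oGroup (qb ζ))).1.toLinearMap - LinearMap.id = 0 from sub_self _, LinearMap.range_zero, finrank_bot])
      ![1, 0] (by simp)
  rcases h with rfl | rfl
  exacts [key _ h₀, key _ h₁]

theorem ext_four : HasExt F 2 ((Fintype.card F : ℤ) ^ 2) 1 := by
  refine HasExt.of (nondeg_prod (qb_nondeg (0 : F)) (qb_nondeg (0 : F)))
    (by rw [Module.finrank_prod, Module.finrank_fin_fun]) (by rw [gauss_prod, gauss_qb_zero]; ring)
    (oProd _ _ (r2o 0, r2o 0)) ?_ (by rw [moved_prod, moved_r2]; exact ⟨1, rfl⟩) (![0, 1], 0) ?_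
  · rw [orderOf_injective _ (oProd_injective _ _), Prod.orderOf_mk, order_r2]; simp
  · rw [pow_one, Finset.sum_range_succ, Finset.sum_range_one, pow_zero, pow_one]
    intro h
    have := congrFun (congrArg Prod.fst h) 0
    change (![0, 1] : Fin 2 → F) 0 + r2 (![0, 1] : Fin 2 → F) 0 = 0 at this
    simp [r2] at this

theorem ext_six (σ : ℤ) (h : σ = (Fintype.card F : ℤ) ^ 3 ∨ σ = -(Fintype.card F : ℤ) ^ 3) : HasExt F 3 σ 2 := by
  obtain ⟨ζ₀, ζ₁, h₀, h₁⟩ := gauss_plane (F := F)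
  have key : ∀ ζ : F, (Fintype.card F : ℤ) ^ 2 * gauss (qb ζ) = σ → HasExt F 3 σ 2 := by
    intro ζ hz
    refine HasExt.of (nondeg_prod q4_nondeg (qb_nondeg ζ)) (by rw [Module.finrank_prod, finrank_v4, Module.finrank_fin_fun])
      (by rw [gauss_prod, gauss_q4, hz]) (oProd _ _ (u4o, r2o ζ)) ?_ (by rw [moved_prod, moved_u4, moved_r2]; exact ⟨2, rfl⟩)
      (((0, 0), (1, 0)), 0) ?_
    · rw [orderOf_injective _ (oProd_injective _ _), Prod.orderOf_mk, order_r2, order_u4]; decide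
    · rw [show (2 : ℕ) ^ 2 = 4 from rfl]
      simp only [Finset.sum_range_succ, Finset.range_zero, Finset.sum_empty, zero_add, pow_zero, pow_succ, one_mul]
      intro h
      have := congrArg (fun w : V4 F × (Fin 2 → F) => w.1.1.1) h
      change ((((0, 0), (1, 0)) : V4 F).1.1 + (u4 ((0, 0), (1, 0))).1.1 + (u4 (u4 ((0, 0), (1, 0)))).1.1
        + (u4 (u4 (u4 ((0, 0), (1, 0))))).1.1 : F) = 0 at this
      rw [u4_sq] at this
      simp [u4, CharTwo.add_self_eq_zero] at this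
  rcases h with rfl | rfl
  · exact key ζ₀ (by rw [h₀]; ring)
  · exact key ζ₁ (by rw [h₁]; ring)

end Cfsg.Agent.EvenSymp
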