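/-
Elements of every maximal order in an eight-dimensional space of minus type.
-/
import Cfsg.Agent.Lib.Isospectral.EvenSymp.Blocks

set_option autoImplicit false
set_option linter.all false

universe u v

namespace Cfsg.Agent.EvenSymp

open QuadraticMap Module Cfsg.Agent.Orth

variable {F : Type u} [Field F] [CharP F 2] [Fintype F] {V : Type v} [AddCommGroup V] [Module F V] [FiniteDimensional F V]
  {Q : QuadraticForm F V}

theorem gauss_qPlus (m : ℕ) : 0 < gauss (qPlus F m) := by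
  let e : (Fin m ⊕ Fin m → F) ≃ₗ[F] (Fin m → F) × (Fin m → F) := LinearEquiv.sumArrowLequivProdArrow _ _ F F
  let β : (Fin m → F) →ₗ[F] (Fin m → F) →ₗ[F] F :=
    LinearMap.mk₂ F (fun x y => ∑ i, x i * y i) (fun a a' b => by simp [add_mul, Finset.sum_add_distrib])
      (fun c a b => by simp [Finset.mul_sum, mul_assoc]) (fun a b b' => by simp [mul_add, Finset.sum_add_distrib])
      (fun c a b => by simp [Finset.mul_sum, mul_left_comm])
  have hβ : ∀ a, (∀ b, β a b = 0) → a = 0 := fun a h => funext fun i => by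
    have := h (Pi.single i 1)
    simpa [β, Pi.single_apply] using this
  rw [gauss_congr (Q := qPlus F m) e (R := (qPlus F m).comp e.symm.toLinearMap) (fun v => by
    show _ = qPlus F m (e.symm (e v)); rw [LinearEquiv.symm_apply_apply]),
    gauss_pairing β hβ ((qPlus F m).comp e.symm.toLinearMap) (fun a b => ?_)]
  · exact_mod_cast Nat.card_pos
  · show qPlus F m (e.symm (a, b)) = ∑ i, a i * b i
    simp [coe_qPlus, Cfsg.quadFormPlus, e]

/-- A minus-type space is the given one. -/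
theorem exists_toSpace (hQ : (polarBilin Q).Nondegenerate) (hV : finrank F V = 2 * 4) (hm : ¬ LBEven.IsPlus 4 Q)
    {W : Type*} [AddCommGroup W] [Module F W] [FiniteDimensional F W] {R : QuadraticForm F W}
    (hR : (polarBilin R).Nondegenerate) (hW : finrank F W = 2 * 4) (hσ : gauss R < 0) :
    ∃ e : W ≃ₗ[F] V, ∀ x, Q (e x) = R x := by
  have hR' : ¬ LBEven.IsPlus 4 R := by
    rintro ⟨g, hg⟩
    rw [gauss_congr g hg] at hσ
    exact absurd hσ (not_lt.2 (gauss_qPlus 4).le)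
  obtain ⟨e, he⟩ := LBEven.exists_iso hR hQ hW hV (iff_of_false hR' hm)
  exact ⟨e, fun x => (he x).symm⟩

theorem elt_of (hQ : (polarBilin Q).Nondegenerate) (hV : finrank F V = 2 * 4) (hm : ¬ LBEven.IsPlus 4 Q) {d : ℕ}
    {σ : ℤ} {m : ℕ} (h : HasElt F d σ m) (hd : d = 4) (hσ : σ < 0) : ∃ g : oGroup Q, orderOf g = m := by
  obtain ⟨R, hR, hs, g, hg⟩ := h
  obtain ⟨e, he⟩ := exists_toSpace hQ hV hm hR (by rw [Module.finrank_fin_fun, hd]) (hs ▸ hσ)
  exact ⟨oCongr e he g, by rw [MulEquiv.orderOf_eq, hg]⟩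

theorem sum_periodic {M : Type*} [AddCommMonoid M] (f : ℕ → M) (p : ℕ) (hf : ∀ i, f (i + p) = f i) (m : ℕ) :
    ∑ i ∈ Finset.range (p * m), f i = m • ∑ i ∈ Finset.range p, f i := by
  induction m with
  | zero => simp
  | succ m ih =>
    rw [Nat.mul_succ, Finset.sum_range_add, ih, succ_nsmul]
    congr 1
    refine Finset.sum_congr rfl fun i _ => ?_
    clear ih
    induction m generalizing i with
    | zero => simp
    | succ m ih => rw [show p * (m + 1) + i = (p * m + i) + p by ring, hf, ih i (by assumption)]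

theorem ext_of (hQ : (polarBilin Q).Nondegenerate) (hV : finrank F V = 2 * 4) (hm : ¬ LBEven.IsPlus 4 Q)
    {d d' : ℕ} {σ σ' : ℤ} {m k : ℕ} (h : HasElt F d σ m) (h' : HasExt F d' σ' k) (hd : d + d' = 4) (hσ : σ * σ' < 0)
    (hodd : Odd m) : ∃ g : oGroup Q, Even (moved g.1) ∧ orderOf g = 2 ^ k * m ∧
      ∃ v, ∑ i ∈ Finset.range (orderOf g), (g ^ i).1 v ≠ 0 := by
  obtain ⟨R, hR, hs, t, ht⟩ := h
  obtain ⟨R', hR', hs', u, hu, hev, w, hw⟩ := h'
  have hW : finrank F ((Fin (2 * d) → F) × (Fin (2 * d') → F)) = 2 * 4 := by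
    rw [Module.finrank_prod, Module.finrank_fin_fun, Module.finrank_fin_fun, ← mul_add, hd]
  have hnd := nondeg_prod hR hR'
  obtain ⟨e, he⟩ := exists_toSpace hQ hV hm hnd hW (by rw [gauss_prod, hs, hs']; exact hσ)
  set g := oProd R R' (t, u) with hg
  have horder : orderOf g = 2 ^ k * m := by
    rw [hg, orderOf_injective _ (oProd_injective R R'), Prod.orderOf_mk, ht, hu, Nat.lcm_comm]
    exact Nat.Coprime.lcm_eq_mul (Nat.Coprime.pow_left k (Nat.coprime_two_left.2 hodd))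
  have heven : Even (moved g.1) := by
    have hF : Fintype.card F ≠ 2 ∨ finrank F ((Fin (2 * d) → F) × (Fin (2 * d') → F)) ≠ 4 := Or.inr (by rw [hW]; norm_num)
    obtain ⟨π, hπ⟩ := exists_kernel hnd hF
    rw [← hπ, hg, show ((t, u) : oGroup R × oGroup R') = (t, 1) * (1, u) by rw [Prod.mk_mul_mk, mul_one, one_mul], map_mul, map_mul]
    rw [(hπ _).2 (even_moved_of_odd hnd hF _ hodd (by rw [← map_pow, Prod.pow_mk, one_pow, ← ht, pow_orderOf_eq_one]; exact map_one _)),
      (hπ _).2 (by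
        rw [moved_prod, show moved ((1 : oGroup R)).1 = 0 by
          rw [moved, show ((1 : oGroup R)).1.toLinearMap - LinearMap.id = 0 from sub_self _, LinearMap.range_zero, finrank_bot],
          zero_add]
        exact hev), one_mul]
  refine ⟨oCongr e he g, ?_, ?_, e (0, w), ?_⟩
  · rwa [moved_conj e g.1 _ fun x => by show e (g.1 (e.symm (e x))) = e (g.1 x); rw [e.symm_apply_apply]]
  · rw [MulEquiv.orderOf_eq, horder]
  · have hpow : ∀ i, ((oCongr e he g) ^ i).1 (e (0, w)) = e (0, (u ^ i).1 w) := by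
      intro i
      rw [← map_pow, hg, ← map_pow, Prod.pow_mk]
      show e ((oProd R R' (t ^ i, u ^ i)).1 (e.symm (e (0, w)))) = _
      rw [e.symm_apply_apply]
      show e ((t ^ i).1 0, (u ^ i).1 w) = _
      rw [map_zero]
    rw [MulEquiv.orderOf_eq, horder, Finset.sum_congr rfl fun i _ => hpow i, ← map_sum]
    intro h0
    have h1 := congrArg Prod.snd (e.map_eq_zero_iff.1 h0)
    rw [Prod.snd_sum] at h1
    rw [sum_periodic (fun i => (u ^ i).1 w) (2 ^ k) (fun i => by rw [pow_add, ← hu, pow_orderOf_eq_one, mul_one]) m] at h1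
    rw [← Nat.cast_smul_eq_nsmul F, natCast_odd hodd, one_smul] at h1
    exact hw h1

omit [Fintype F] in
theorem coprime_add_two {a b : ℕ} (ha : Odd a) (h : ∃ c, b = a * c + 2 ∨ a * c = b + 2) : Nat.Coprime a b := by
  obtain ⟨c, h⟩ := h
  refine Nat.coprime_of_dvd' fun p hp hpa hpb => ?_
  have h2 : p ∣ 2 := by
    rcases h with h | h
    · exact (Nat.dvd_add_right (hpa.mul_right c)).1 (h ▸ hpb)
    · exact (Nat.dvd_add_right hpb).1 (h ▸ hpa.mul_right c)
  obtain rfl := (Nat.prime_dvd_prime_iff_eq hp Nat.prime_two).1 h2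
  exact absurd (even_iff_two_dvd.2 hpa) (Nat.not_even_iff_odd.2 ha)

/-- Facts on the orders of tori in even characteristic. -/
theorem arith (q : ℕ) (hq : Even q) (h2 : 2 ≤ q) :
    (∀ e, 1 ≤ e → Odd (q ^ e + 1) ∧ Odd (q ^ e - 1)) ∧ Nat.lcm (q ^ 2 - 1) (q ^ 2 + 1) = q ^ 4 - 1 ∧
      Nat.lcm (q ^ 3 + 1) (q - 1) = (q ^ 3 + 1) * (q - 1) ∧ Nat.lcm (q ^ 3 - 1) (q + 1) = (q ^ 3 - 1) * (q + 1) ∧
      Nat.lcm (q ^ 2 + 1) (q + 1) = (q ^ 2 + 1) * (q + 1) ∧ Nat.lcm (q ^ 2 + 1) (q - 1) = (q ^ 2 + 1) * (q - 1) ∧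
      Nat.lcm (q - 1) (q + 1) = q ^ 2 - 1 := by
  have hodd : ∀ e, 1 ≤ e → Odd (q ^ e + 1) ∧ Odd (q ^ e - 1) := fun e he => by
    have hev : Even (q ^ e) := (Nat.even_pow).2 ⟨hq, by omega⟩
    have hpos : 0 < q ^ e := pow_pos (by omega) e
    rw [Nat.even_iff] at hev
    rw [Nat.odd_iff, Nat.odd_iff]
    omega
  obtain ⟨t, rfl⟩ : ∃ t, q = t + 1 := ⟨q - 1, by omega⟩
  have hp1 : Odd (t + 1 + 1) := by simpa using (hodd 1 le_rfl).1
  have hm1 : Odd (t + 1 - 1) := by simpa using (hodd 1 le_rfl).2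
  simp only [Nat.add_sub_cancel] at hm1 ⊢
  have e2 : (t + 1) ^ 2 - 1 = t * (t + 2) := by apply Nat.sub_eq_of_eq_add; ring
  have e3 : (t + 1) ^ 3 - 1 = t * (t ^ 2 + 3 * t + 3) := by apply Nat.sub_eq_of_eq_add; ring
  have c11 : Nat.Coprime t (t + 1 + 1) := coprime_add_two hm1 ⟨1, Or.inl (by ring)⟩
  have c2 : Nat.Coprime ((t + 1) ^ 2 - 1) ((t + 1) ^ 2 + 1) :=
    coprime_add_two (hodd 2 (by norm_num)).2 ⟨1, Or.inl (by rw [e2]; ring)⟩
  have c31 : Nat.Coprime t ((t + 1) ^ 3 + 1) := coprime_add_two hm1 ⟨t ^ 2 + 3 * t + 3, Or.inl (by ring)⟩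
  have c31' : Nat.Coprime (t + 1 + 1) ((t + 1) ^ 3 - 1) :=
    coprime_add_two hp1 ⟨(t + 1) * t + 1, Or.inr (by rw [e3]; ring)⟩
  have c21 : Nat.Coprime t ((t + 1) ^ 2 + 1) := coprime_add_two hm1 ⟨t + 2, Or.inl (by ring)⟩
  have c21' : Nat.Coprime (t + 1 + 1) ((t + 1) ^ 2 + 1) := coprime_add_two hp1 ⟨t, Or.inl (by ring)⟩
  refine ⟨hodd, ?_, ?_, ?_, ?_, ?_, ?_⟩
  · rw [c2.lcm_eq_mul, e2]; symm; apply Nat.sub_eq_of_eq_add; ring
  · exact c31.symm.lcm_eq_mul
  · exact c31'.symm.lcm_eq_mul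
  · exact c21'.symm.lcm_eq_mul
  · exact c21.symm.lcm_eq_mul
  · rw [c11.lcm_eq_mul, e2]

omit [CharP F 2] in
theorem card_even [CharP F 2] : Even (Fintype.card F) ∧ 2 ≤ Fintype.card F := by
  refine ⟨?_, Fintype.one_lt_card⟩
  obtain ⟨n, -, h⟩ := FiniteField.card F 2
  rw [h]
  exact (Nat.even_pow).2 ⟨even_two, n.pos.ne'⟩

/-- Every maximal order is that of an isometry. -/
theorem realize (hQ : (polarBilin Q).Nondegenerate) (hV : finrank F V = 2 * 4) (hm : ¬ LBEven.IsPlus 4 Q) {X : ℕ}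
    (hX : X ∈ bigList (Fintype.card F)) : ∃ g : oGroup Q, orderOf g = X := by
  obtain ⟨hqe, hq2⟩ := card_even (F := F)
  obtain ⟨hodd, l22, l31, l31', l21, l21', l11⟩ := arith (Fintype.card F) hqe hq2
  have hq : (0 : ℤ) < (Fintype.card F : ℤ) := by exact_mod_cast Fintype.card_pos
  have tp : ∀ e, 1 ≤ e → HasElt F e ((Fintype.card F : ℤ) ^ e) (Fintype.card F ^ e - 1) := torus_plus
  have tm : ∀ e, 1 ≤ e → HasElt F e (-(Fintype.card F : ℤ) ^ e) (Fintype.card F ^ e + 1) := torus_minus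
  have t1p : HasElt F 1 (Fintype.card F : ℤ) (Fintype.card F - 1) := by simpa using tp 1 le_rfl
  have t1m : HasElt F 1 (-(Fintype.card F : ℤ)) (Fintype.card F + 1) := by simpa using tm 1 le_rfl
  have tw : ∀ a : ℕ, Odd a → Nat.lcm a 2 = 2 * a ∧ Nat.lcm a 4 = 4 * a ∧ Nat.lcm a 8 = 8 * a := by
    intro a ha
    have h : ∀ i, Nat.lcm a (2 ^ i) = 2 ^ i * a := fun i => by
      rw [Nat.lcm_comm]; exact Nat.Coprime.lcm_eq_mul (Nat.Coprime.pow_left i (Nat.coprime_two_left.2 ha))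
    exact ⟨by simpa using h 1, by simpa using h 2, by simpa using h 3⟩
  have P1 := elt_plane (F := F) _ (Or.inl rfl)
  have P2 := elt_plane (F := F) _ (Or.inr rfl)
  have S1 := elt_six (F := F) _ (Or.inl rfl)
  have S2 := elt_six (F := F) _ (Or.inr rfl)
  have o1 : Odd (Fintype.card F + 1) ∧ Odd (Fintype.card F - 1) := by simpa using hodd 1 le_rfl
  have o2 := hodd 2 (by norm_num)
  have o3 := hodd 3 (by norm_num)
  have o22 : Odd ((Fintype.card F ^ 2 + 1) * (Fintype.card F + 1)) := o2.1.mul o1.1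
  have o22' : Odd ((Fintype.card F ^ 2 + 1) * (Fintype.card F - 1)) := o2.1.mul o1.2
  set q := (Fintype.card F : ℤ) with hqd
  simp only [bigList, torList, List.map_cons, List.map_nil, List.cons_append, List.nil_append, List.mem_cons,
    List.not_mem_nil, or_false] at hX
  rcases hX with rfl | rfl | rfl | rfl | rfl | rfl | rfl | rfl | rfl | rfl | rfl | rfl | rfl
  · exact elt_of hQ hV hm (tm 4 (by norm_num)) rfl (by have := pow_pos hq 4; linarith)
  · have h := (tp 2 (by norm_num)).mul (tm 2 (by norm_num))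
    rw [l22] at h
    exact elt_of hQ hV hm h rfl (by have := pow_pos hq 4; linarith)
  · have h := (tm 3 (by norm_num)).mul t1p
    rw [l31] at h
    exact elt_of hQ hV hm h rfl (by have := pow_pos hq 4; linarith)
  · have h := (tp 3 (by norm_num)).mul t1m
    rw [l31'] at h
    exact elt_of hQ hV hm h rfl (by have := pow_pos hq 4; linarith)
  · have h := (tm 3 (by norm_num)).mul P1
    rw [(tw _ o3.1).1] at h
    exact elt_of hQ hV hm h rfl (by have := pow_pos hq 4; linarith)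
  · have h := (tp 3 (by norm_num)).mul P2
    rw [(tw _ o3.2).1] at h
    exact elt_of hQ hV hm h rfl (by have := pow_pos hq 4; linarith)
  · have h := ((tm 2 (by norm_num)).mul t1m).mul P2
    rw [l21, (tw _ o22).1] at h
    exact elt_of hQ hV hm h rfl (by have := pow_pos hq 4; linarith)
  · have h := ((tm 2 (by norm_num)).mul t1p).mul P1
    rw [l21', (tw _ o22').1] at h
    exact elt_of hQ hV hm h rfl (by have := pow_pos hq 4; linarith)
  · have h := ((t1p.mul t1m).mul t1p).mul P1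
    rw [l11, show Nat.lcm (Fintype.card F ^ 2 - 1) (Fintype.card F - 1) = Fintype.card F ^ 2 - 1 from
      Nat.lcm_eq_left (dvd_facts _ (by omega)).2.1, (tw _ o2.2).1] at h
    exact elt_of hQ hV hm h rfl (by have := pow_pos hq 4; linarith)
  · have h := (tm 2 (by norm_num)).mul (elt_four (F := F))
    rw [(tw _ o2.1).2.1] at h
    exact elt_of hQ hV hm h rfl (by have := pow_pos hq 4; linarith)
  · have h := (t1p.mul t1m).mul (elt_four (F := F))
    rw [l11, (tw _ o2.2).2.1] at h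
    exact elt_of hQ hV hm h rfl (by have := pow_pos hq 4; linarith)
  · have h := t1m.mul S1
    rw [(tw _ o1.1).2.2] at h
    exact elt_of hQ hV hm h rfl (by have := pow_pos hq 4; linarith)
  · have h := t1p.mul S2
    rw [(tw _ o1.2).2.2] at h
    exact elt_of hQ hV hm h rfl (by have := pow_pos hq 4; linarith)

/-- Every maximal order is that of an element of the extension of the kernel of parity. -/
theorem realize_ext (hQ : (polarBilin Q).Nondegenerate) (hV : finrank F V = 2 * 4) (hm : ¬ LBEven.IsPlus 4 Q) {X : ℕ}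
    (hX : X ∈ bigList (Fintype.card F)) : ∃ g : oGroup Q, Even (moved g.1) ∧
      (orderOf g = X ∨ (X = 2 * orderOf g ∧ ∃ v, ∑ i ∈ Finset.range (orderOf g), (g ^ i).1 v ≠ 0)) := by
  obtain ⟨hqe, hq2⟩ := card_even (F := F)
  obtain ⟨hodd, l22, l31, l31', l21, l21', l11⟩ := arith (Fintype.card F) hqe hq2
  have hq : (0 : ℤ) < (Fintype.card F : ℤ) := by exact_mod_cast Fintype.card_pos
  have tp : ∀ e, 1 ≤ e → HasElt F e ((Fintype.card F : ℤ) ^ e) (Fintype.card F ^ e - 1) := torus_plus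
  have tm : ∀ e, 1 ≤ e → HasElt F e (-(Fintype.card F : ℤ) ^ e) (Fintype.card F ^ e + 1) := torus_minus
  have t1p : HasElt F 1 (Fintype.card F : ℤ) (Fintype.card F - 1) := by simpa using tp 1 le_rfl
  have t1m : HasElt F 1 (-(Fintype.card F : ℤ)) (Fintype.card F + 1) := by simpa using tm 1 le_rfl
  have P1 := ext_plane (F := F) _ (Or.inl rfl)
  have P2 := ext_plane (F := F) _ (Or.inr rfl)
  have S1 := ext_six (F := F) _ (Or.inl rfl)
  have S2 := ext_six (F := F) _ (Or.inr rfl)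
  have o1 : Odd (Fintype.card F + 1) ∧ Odd (Fintype.card F - 1) := by simpa using hodd 1 le_rfl
  have o2 := hodd 2 (by norm_num)
  have o3 := hodd 3 (by norm_num)
  have o4 := hodd 4 (by norm_num)
  have hF : Fintype.card F ≠ 2 ∨ finrank F V ≠ 4 := Or.inr (by rw [hV]; norm_num)
  have top : Odd X → (∃ g : oGroup Q, orderOf g = X) → ∃ g : oGroup Q, Even (moved g.1) ∧
      (orderOf g = X ∨ (X = 2 * orderOf g ∧ ∃ v, ∑ i ∈ Finset.range (orderOf g), (g ^ i).1 v ≠ 0)) :=
    fun ho ⟨g, hg⟩ => ⟨g, even_moved_of_odd hQ hF g ho (by rw [← hg, pow_orderOf_eq_one]), Or.inl hg⟩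
  have low : ∀ {k m : ℕ}, X = 2 * (2 ^ k * m) → (∃ g : oGroup Q, Even (moved g.1) ∧ orderOf g = 2 ^ k * m ∧
      ∃ v, ∑ i ∈ Finset.range (orderOf g), (g ^ i).1 v ≠ 0) → ∃ g : oGroup Q, Even (moved g.1) ∧
      (orderOf g = X ∨ (X = 2 * orderOf g ∧ ∃ v, ∑ i ∈ Finset.range (orderOf g), (g ^ i).1 v ≠ 0)) :=
    fun he ⟨g, h1, h2, h3⟩ => ⟨g, h1, Or.inr ⟨by rw [he, h2], h3⟩⟩
  set q := (Fintype.card F : ℤ) with hqd
  have hq4 := pow_pos hq 4
  simp only [bigList, torList, List.map_cons, List.map_nil, List.cons_append, List.nil_append, List.mem_cons,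
    List.not_mem_nil, or_false] at hX
  rcases hX with h | h | h | h | h | h | h | h | h | h | h | h | h
  · exact top (h ▸ o4.1) (realize hQ hV hm (by simp [bigList, torList, h]))
  · exact top (h ▸ o4.2) (realize hQ hV hm (by simp [bigList, torList, h]))
  · exact top (h ▸ o3.1.mul o1.2) (realize hQ hV hm (by simp [bigList, torList, h]))
  · exact top (h ▸ o3.2.mul o1.1) (realize hQ hV hm (by simp [bigList, torList, h]))
  · exact low (k := 0) (by rw [h, pow_zero, one_mul]) (ext_of hQ hV hm (tm 3 (by norm_num)) P1 rfl (by linarith) o3.1)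
  · exact low (k := 0) (by rw [h, pow_zero, one_mul]) (ext_of hQ hV hm (tp 3 (by norm_num)) P2 rfl (by linarith) o3.2)
  · have t := (tm 2 (by norm_num)).mul t1m
    rw [l21] at t
    exact low (k := 0) (by rw [h, pow_zero, one_mul]) (ext_of hQ hV hm t P2 rfl (by linarith) (o2.1.mul o1.1))
  · have t := (tm 2 (by norm_num)).mul t1p
    rw [l21'] at t
    exact low (k := 0) (by rw [h, pow_zero, one_mul]) (ext_of hQ hV hm t P1 rfl (by linarith) (o2.1.mul o1.2))
  · have t := (t1p.mul t1m).mul t1p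
    rw [l11, show Nat.lcm (Fintype.card F ^ 2 - 1) (Fintype.card F - 1) = Fintype.card F ^ 2 - 1 from
      Nat.lcm_eq_left (dvd_facts _ (by omega)).2.1] at t
    exact low (k := 0) (by rw [h, pow_zero, one_mul]) (ext_of hQ hV hm t P1 rfl (by linarith) o2.2)
  · exact low (k := 1) (by rw [h]; ring) (ext_of hQ hV hm (tm 2 (by norm_num)) (ext_four (F := F)) rfl (by linarith) o2.1)
  · have t := t1p.mul t1m
    rw [l11] at t
    exact low (k := 1) (by rw [h]; ring) (ext_of hQ hV hm t (ext_four (F := F)) rfl (by linarith) o2.2)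
  · exact low (k := 2) (by rw [h]; ring) (ext_of hQ hV hm t1m S1 rfl (by linarith) o1.1)
  · exact low (k := 2) (by rw [h]; ring) (ext_of hQ hV hm t1p S2 rfl (by linarith) o1.2)

end Cfsg.Agent.EvenSymp
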