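/-
The element orders of Sp(8, 2^f), of the orthogonal group of minus type, and of an extension by the module.
-/
import Cfsg.Agent.Lib.Isospectral.EvenSymp.Realize
import Cfsg.Agent.Lib.Classical.Symplectic
import Cfsg.Agent.Lib.Orthogonal.Matrix

set_option autoImplicit false
set_option linter.all false

universe u

namespace Cfsg.Agent.EvenSymp

open QuadraticMap Module Cfsg.Agent.Orth Matrix

/-- Two ways to bound a set of element orders give the set. -/
theorem range_eq {G : Type*} [Group G] {L : List ℕ} (hpos : ∀ X ∈ L, 0 < X) (h : ∀ g : G, ∃ X ∈ L, g ^ X = 1)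
    (h' : ∀ X ∈ L, ∃ g : G, orderOf g = X) : Set.range (orderOf : G → ℕ) = {o | ∃ X ∈ L, o ∣ X} := by
  ext o
  refine ⟨?_, ?_⟩
  · rintro ⟨g, rfl⟩
    obtain ⟨X, hX, hg⟩ := h g
    exact ⟨X, hX, orderOf_dvd_of_pow_eq_one hg⟩
  · rintro ⟨X, hX, hd⟩
    obtain ⟨g, rfl⟩ := h' X hX
    exact ⟨g ^ (orderOf g / o), orderOf_pow_orderOf_div (hpos _ hX).ne' hd⟩

variable {F : Type u} [Field F] [CharP F 2] [Fintype F]

/-- The index of the space of minus type. -/
abbrev I := (Fin 3 ⊕ Fin 3) ⊕ Fin 2

/-- Symplectic coordinates on the space of minus type. -/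
def coord (a : F) (ha : a ≠ 0) : (I → F) ≃ₗ[F] (Fin 4 ⊕ Fin 4 → F) where
  toFun v := Sum.elim ![v (.inl (.inl 0)), v (.inl (.inl 1)), v (.inl (.inl 2)), v (.inr 0)]
    ![v (.inl (.inr 0)), v (.inl (.inr 1)), v (.inl (.inr 2)), a * v (.inr 1)]
  map_add' v w := by
    ext (i | i) <;> fin_cases i <;> simp <;> ring
  map_smul' c v := by
    ext (i | i) <;> fin_cases i <;> simp <;> ring
  invFun w := Sum.elim (Sum.elim ![w (.inl 0), w (.inl 1), w (.inl 2)] ![w (.inr 0), w (.inr 1), w (.inr 2)])
    ![w (.inl 3), a⁻¹ * w (.inr 3)]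
  left_inv v := by
    ext ((i | i) | i) <;> fin_cases i <;> simp [ha]
  right_inv w := by
    ext (i | i) <;> fin_cases i <;> simp [ha]

theorem polar_coord {a b : F} (ha : a ≠ 0) (u v : I → F) :
    Cfsg.sympForm 4 F (coord a ha u) (coord a ha v) = polar (qMinus F 3 a b) u v := by
  rw [qMinus, LBQuad.polar_qPad, LBQuad.polar_qBin']
  have h2 : (2 : F) = 0 := CharTwo.two_eq_zero
  simp [Cfsg.sympForm, Matrix.J, Matrix.fromBlocks_mulVec, dotProduct, Fintype.sum_sum_type, Fin.sum_univ_four,
    Fin.sum_univ_three, coord, h2, Matrix.neg_mulVec]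
  linear_combination (-(u (.inl (.inl 0)) * v (.inl (.inr 0))) - u (.inl (.inl 1)) * v (.inl (.inr 1))
    - u (.inl (.inl 2)) * v (.inl (.inr 2)) - a * u (.inr 0) * v (.inr 1)) * h2

variable {a b : F} (hab : ∀ z₁ z₂ : F, z₁ ^ 2 + a * z₁ * z₂ + b * z₂ ^ 2 = 0 → z₁ = 0 ∧ z₂ = 0)
include hab

theorem coeff_ne : a ≠ 0 := by
  rintro rfl
  obtain ⟨s, hs⟩ := LBSpOrth.sq_surj b
  exact one_ne_zero (hab s 1 (by linear_combination hs + b * (CharTwo.two_eq_zero (R := F)))).2

theorem nondeg : (polarBilin (qMinus F 3 a b)).Nondegenerate := by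
  have ha := coeff_ne hab
  refine nondeg_of fun x hx => ?_
  have h : (polarBilin ((qMinus F 3 a b).comp (coord a ha).symm.toLinearMap)).Nondegenerate := by
    refine LBSpOrth.nondeg_sympForm fun u v => ?_
    obtain ⟨u, rfl⟩ := (coord a ha).surjective u
    obtain ⟨v, rfl⟩ := (coord a ha).surjective v
    rw [polar_coord (b := b) ha]
    simp only [polar, QuadraticMap.comp_apply, ← map_add, LinearEquiv.coe_coe, LinearEquiv.symm_apply_apply]
  refine (coord a ha).map_eq_zero_iff.1 (eq_zero_of_b h fun y => ?_)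
  obtain ⟨y, rfl⟩ := (coord a ha).surjective y
  rw [← hx y]
  simp only [polar, QuadraticMap.comp_apply, ← map_add, LinearEquiv.coe_coe, LinearEquiv.symm_apply_apply]

theorem not_plus : ¬ LBEven.IsPlus 4 (qMinus F 3 a b) :=
  LBEven.minus_not_plus (m := 4) (by norm_num) hab (LinearEquiv.refl F _) fun v => rfl

omit hab in
theorem dim_eq : finrank F (I → F) = 2 * 4 := by simp

/-- The symplectic matrix of an isometry. -/
noncomputable def toSp (g : oGroup (qMinus F 3 a b)) : Matrix.symplecticGroup (Fin 4) F :=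
  ⟨LinearMap.toMatrix' ((coord a (coeff_ne hab)).conj g.1.toLinearMap), by
    set M := LinearMap.toMatrix' ((coord a (coeff_ne hab)).conj g.1.toLinearMap) with hM
    have hMv : ∀ x, M *ᵥ x = coord a (coeff_ne hab) (g.1 ((coord a (coeff_ne hab)).symm x)) := fun x => by
      rw [hM, LinearMap.toMatrix'_mulVec]; rfl
    rw [SymplecticGroup.mem_iff']
    refine Matrix.ext_iff_mulVec.2 fun v => ?_
    refine funext fun i => ?_
    have h : ∀ u, u ⬝ᵥ ((Mᵀ * Matrix.J (Fin 4) F * M) *ᵥ v) = u ⬝ᵥ (Matrix.J (Fin 4) F *ᵥ v) := fun u => by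
      rw [← Matrix.mulVec_mulVec, ← Matrix.mulVec_mulVec, Matrix.dotProduct_mulVec, Matrix.vecMul_transpose]
      show Cfsg.sympForm 4 F (M *ᵥ u) (M *ᵥ v) = Cfsg.sympForm 4 F u v
      obtain ⟨u, rfl⟩ := (coord a (coeff_ne hab)).surjective u
      obtain ⟨w, hw⟩ := (coord a (coeff_ne hab)).surjective v
      rw [← hw, hMv, hMv, LinearEquiv.symm_apply_apply, LinearEquiv.symm_apply_apply, polar_coord (b := b), polar_coord (b := b)]
      exact b_map g.2 _ _
    simpa using h (Pi.single i 1)⟩

theorem toSp_mul (g h : oGroup (qMinus F 3 a b)) : toSp hab (g * h) = toSp hab g * toSp hab h := by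
  refine Subtype.ext ?_
  show LinearMap.toMatrix' _ = LinearMap.toMatrix' _ * LinearMap.toMatrix' _
  rw [← LinearMap.toMatrix'_comp, ← LinearEquiv.conj_comp]
  rfl

/-- The embedding into the symplectic group. -/
noncomputable def spHom : oGroup (qMinus F 3 a b) →* Matrix.symplecticGroup (Fin 4) F :=
  MonoidHom.mk' (toSp hab) (toSp_mul hab)

theorem spHom_injective : Function.Injective (spHom hab) := fun g h e =>
  Subtype.ext (LinearEquiv.toLinearMap_injective ((coord a (coeff_ne hab)).conj.injective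
    (LinearMap.toMatrix'.injective (congrArg Subtype.val e))))

theorem spHom_mulVec (g : oGroup (qMinus F 3 a b)) (x : I → F) :
    (spHom hab g).1 *ᵥ coord a (coeff_ne hab) x = coord a (coeff_ne hab) (g.1 x) := by
  show LinearMap.toMatrix' _ *ᵥ _ = _
  rw [LinearMap.toMatrix'_mulVec, LinearEquiv.conj_apply_apply, LinearEquiv.symm_apply_apply]
  rfl

omit hab in
theorem bigList_pos {X : ℕ} (hX : X ∈ bigList (Fintype.card F)) : 0 < X := by
  have hq : 1 < Fintype.card F := Fintype.one_lt_card
  have h1 : ∀ e, 1 ≤ e → 0 < Fintype.card F ^ e - 1 := fun e he => by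
    have := Nat.one_lt_pow (by omega : e ≠ 0) hq
    omega
  have h2 := h1 1 le_rfl
  rw [pow_one] at h2
  have h22 := h1 2 (by norm_num)
  have h3 := h1 3 (by norm_num)
  have h4 := h1 4 (by norm_num)
  simp only [bigList, torList, List.map_cons, List.map_nil, List.cons_append, List.nil_append, List.mem_cons,
    List.not_mem_nil, or_false] at hX
  rcases hX with h | h | h | h | h | h | h | h | h | h | h | h | h <;> subst h <;> positivity

omit hab in
theorem sp_bound (s : Matrix.symplecticGroup (Fin 4) F) : ∃ X ∈ bigList (Fintype.card F), s ^ X = 1 := by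
  classical
  have ho : 0 < orderOf s := orderOf_pos s
  obtain ⟨k, m, hm, hkm⟩ := Nat.exists_eq_two_pow_mul_odd ho.ne'
  have hpow : ∀ i, s.1 ^ i = 1 ↔ s ^ i = 1 := fun i => by
    rw [← SubmonoidClass.coe_pow, OneMemClass.coe_eq_one]
  have hmin : k = 0 ∨ s.1 ^ (2 ^ (k - 1) * m) ≠ 1 := by
    rcases Nat.eq_zero_or_pos k with h | h
    · exact Or.inl h
    refine Or.inr fun he => ?_
    rw [hpow] at he
    have h1 := Nat.le_of_dvd (Nat.mul_pos (Nat.two_pow_pos _) hm.pos) (orderOf_dvd_of_pow_eq_one he)
    rw [hkm] at h1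
    have := Nat.mul_lt_mul_of_pos_right (Nat.pow_lt_pow_right one_lt_two (show k - 1 < k by omega)) hm.pos
    omega
  obtain ⟨X, hX, hk, hX1⟩ := exists_bound (Matrix.J (Fin 4) F) (Matrix.isUnit_det_J (Fin 4) F) (by simp)
    (SymplecticGroup.mem_iff'.1 s.2) hm (by rw [hpow, ← hkm, pow_orderOf_eq_one]) hmin
  exact ⟨2 ^ k * X, mem_bigList hk hX, (hpow _).1 hX1⟩

theorem range_sp : Set.range (orderOf : Matrix.symplecticGroup (Fin 4) F → ℕ) = {o | ∃ X ∈ bigList (Fintype.card F), o ∣ X} := by
  refine range_eq (fun X => bigList_pos) sp_bound fun X hX => ?_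
  obtain ⟨g, hg⟩ := realize (nondeg hab) dim_eq (not_plus hab) hX
  exact ⟨spHom hab g, by rw [orderOf_injective _ (spHom_injective hab), hg]⟩

theorem range_o : Set.range (orderOf : oGroup (qMinus F 3 a b) → ℕ) = {o | ∃ X ∈ bigList (Fintype.card F), o ∣ X} := by
  refine range_eq (fun X => bigList_pos) (fun g => ?_) fun X hX => realize (nondeg hab) dim_eq (not_plus hab) hX
  obtain ⟨X, hX, h⟩ := sp_bound (spHom hab g)
  exact ⟨X, hX, spHom_injective hab (by rw [map_pow, h, map_one])⟩

omit hab in
theorem orderOf_range_congr {G H : Type*} [Group G] [Group H] (e : G ≃* H) :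
    Set.range (orderOf : H → ℕ) = Set.range (orderOf : G → ℕ) := by
  ext o
  exact ⟨fun ⟨h, hh⟩ => ⟨e.symm h, by rw [e.symm.orderOf_eq, hh]⟩, fun ⟨g, hg⟩ => ⟨e g, by rw [e.orderOf_eq, hg]⟩⟩

omit hab in
theorem center_eq_bot : Subgroup.center (Matrix.symplecticGroup (Fin 4) F) = ⊥ := by
  refine Subgroup.card_eq_one.1 ?_
  rw [ClassicalSp.card_center_sp (by norm_num), Nat.card_eq_fintype_card]
  obtain ⟨he, h2⟩ := card_even (F := F)
  refine Nat.Coprime.gcd_eq_one ?_
  rw [Nat.coprime_two_left, Nat.odd_iff]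
  rw [Nat.even_iff] at he
  omega

theorem range_psp : Set.range (orderOf : Cfsg.PSp 4 F → ℕ) = {o | ∃ X ∈ bigList (Fintype.card F), o ∣ X} := by
  rw [← range_sp hab]
  exact orderOf_range_congr ((QuotientGroup.quotientMulEquivOfEq center_eq_bot).trans QuotientGroup.quotientBot).symm

/-- The isometries acting on a power of the module. -/
def act (n : ℕ) : oGroup (qMinus F 3 a b) →* MulAut (Multiplicative (Fin n → I → F)) where
  toFun g := AddEquiv.toMultiplicative (LinearEquiv.piCongrRight fun _ : Fin n => g.1).toAddEquiv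
  map_one' := by ext x; rfl
  map_mul' g h := by ext x; rfl

theorem exists_isospectral (M : ℕ) :
    ∃ (H : Type) (_ : Group H) (_ : Fintype H), M < Fintype.card H ∧
      Set.range (orderOf : H → ℕ) = {o | ∃ X ∈ bigList (Fintype.card F), o ∣ X} := by
  classical
  have hQ := nondeg hab
  have hF : Fintype.card F ≠ 2 ∨ finrank F (I → F) ≠ 4 := Or.inr (by rw [dim_eq]; norm_num)
  obtain ⟨π, hπ⟩ := exists_kernel hQ hF
  haveI : Finite ((I → F) ≃ₗ[F] (I → F)) := Finite.of_injective (fun g => ⇑g) DFunLike.coe_injective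
  let φ : π.ker →* MulAut (Multiplicative (Fin (M + 1) → I → F)) := (act (M + 1)).comp π.ker.subtype
  let H0 := Multiplicative (Fin (M + 1) → I → F) ⋊[φ] π.ker
  have hpow : ∀ (x : H0) (i : ℕ), (x ^ i).right = x.right ^ i ∧ ∀ c, Multiplicative.toAdd (x ^ i).left c =
      ∑ j ∈ Finset.range i, ((x.right : oGroup (qMinus F 3 a b)) ^ j).1 (Multiplicative.toAdd x.left c) := by
    intro x i
    induction i with
    | zero => exact ⟨rfl, fun c => by simp⟩
    | succ i ih =>
      refine ⟨by rw [pow_succ, SemidirectProduct.mul_right, ih.1, pow_succ], fun c => ?_⟩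
      rw [pow_succ, SemidirectProduct.mul_left, toAdd_mul, Pi.add_apply, ih.2, ih.1, Finset.sum_range_succ]
      congr 1
  haveI : Finite H0 := Finite.of_equiv _ SemidirectProduct.equivProd.symm
  haveI := Fintype.ofFinite H0
  have hcard : M < Fintype.card H0 := by
    rw [← Nat.card_eq_fintype_card, SemidirectProduct.card, Nat.card_congr Multiplicative.toAdd, Nat.card_fun,
      Nat.card_eq_fintype_card (α := Fin (M + 1)), Fintype.card_fin]
    refine lt_of_lt_of_le (lt_of_lt_of_le (Nat.lt_succ_self M) ?_) (Nat.le_mul_of_pos_right _ Nat.card_pos)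
    refine (Nat.lt_pow_self (a := Nat.card (I → F)) ?_).le
    exact Finite.one_lt_card
  have hrange : Set.range (orderOf : H0 → ℕ) = {o | ∃ X ∈ bigList (Fintype.card F), o ∣ X} := by
    refine range_eq (fun X => bigList_pos) (fun x => ?_) fun X hX => ?_
    · set g : oGroup (qMinus F 3 a b) := x.right.1 with hg
      have hpar : ∀ i, Even (finrank F (LinearMap.range (lin ((spHom hab g).1 ^ i - 1)))) := by
        intro i
        have h1 : Even (moved (g ^ i).1) := (hπ _).1 (by rw [← SubgroupClass.coe_pow]; exact MonoidHom.mem_ker.1 (x.right ^ i).2)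
        have h2 : LinearMap.range (lin ((spHom hab g).1 ^ i - 1)) =
            (LinearMap.range ((g ^ i).1.toLinearMap - LinearMap.id)).map (coord a (coeff_ne hab)).toLinearMap := by
          rw [← LinearMap.range_comp, ← SubmonoidClass.coe_pow, ← map_pow]
          conv_lhs => rw [← LinearMap.range_comp_of_range_eq_top (f := (coord a (coeff_ne hab)).toLinearMap) _
            (LinearEquiv.range _)]
          congr 1
          refine LinearMap.ext fun v => ?_
          show lin ((spHom hab (g ^ i)).1 - 1) (coord a (coeff_ne hab) v) = coord a (coeff_ne hab) ((g ^ i).1 v - v)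
          rw [lin_apply, Matrix.sub_mulVec, Matrix.one_mulVec, spHom_mulVec hab, map_sub]
        rw [h2, LinearEquiv.finrank_map_eq]
        exact h1
      obtain ⟨X, hX, h1, h2⟩ := exists_bound_ext (Matrix.J (Fin 4) F) (Matrix.isUnit_det_J (Fin 4) F) (by simp)
        (SymplecticGroup.mem_iff'.1 (spHom hab g).2) hpar (orderOf_pos (spHom hab g))
        (by rw [← SubmonoidClass.coe_pow, pow_orderOf_eq_one]; rfl)
      refine ⟨X, hX, SemidirectProduct.ext ?_ ?_⟩
      · rw [SemidirectProduct.one_left]
        refine Multiplicative.toAdd.injective (funext fun c => ?_)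
        rw [(hpow x X).2]
        refine (coord a (coeff_ne hab)).injective ?_
        rw [map_sum, toAdd_one, Pi.zero_apply, map_zero, Finset.sum_congr rfl fun j _ => by
          rw [← spHom_mulVec hab, map_pow, SubmonoidClass.coe_pow]]
        rw [← Matrix.sum_mulVec, h2, Matrix.zero_mulVec]
      · rw [SemidirectProduct.one_right, (hpow x X).1]
        refine Subtype.ext (spHom_injective hab (Subtype.ext ?_))
        rw [SubgroupClass.coe_pow, map_pow, SubmonoidClass.coe_pow, h1, OneMemClass.coe_one, map_one]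
        rfl
    · obtain ⟨g, hev, h⟩ := realize_ext hQ dim_eq (not_plus hab) hX
      let gk : π.ker := ⟨g, MonoidHom.mem_ker.2 ((hπ g).2 hev)⟩
      have hgk : orderOf gk = orderOf g := (orderOf_injective π.ker.subtype Subtype.coe_injective gk).symm
      rcases h with rfl | ⟨rfl, v, hv⟩
      · refine ⟨SemidirectProduct.inr gk, ?_⟩
        rw [orderOf_injective _ SemidirectProduct.inr_injective, hgk]
      · obtain ⟨y, hy⟩ : ∃ y : H0, y = ⟨Multiplicative.ofAdd fun _ => v, gk⟩ := ⟨_, rfl⟩
        refine ⟨y, ?_⟩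
        set o := orderOf g with ho
        have hr : ∀ i, y ^ i = 1 → o ∣ i := fun i hi => by
          rw [← hgk]
          refine orderOf_dvd_of_pow_eq_one ?_
          have := congrArg SemidirectProduct.right hi
          rwa [(hpow y i).1, SemidirectProduct.one_right, hy] at this
        have hne : y ^ o ≠ 1 := fun e => hv (by
          have := congrArg (fun z : H0 => Multiplicative.toAdd z.left 0) e
          simp only [(hpow y o).2, SemidirectProduct.one_left, toAdd_one, Pi.zero_apply] at this
          rw [hy] at this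
          exact this)
        have hpow2 : y ^ (2 * o) = 1 := by
          refine SemidirectProduct.ext ?_ ?_
          · refine Multiplicative.toAdd.injective (funext fun c => ?_)
            rw [(hpow y _).2, two_mul, Finset.sum_range_add, SemidirectProduct.one_left, toAdd_one, Pi.zero_apply, hy]
            simp only [pow_add, show g ^ o = 1 from pow_orderOf_eq_one g, show ((gk : oGroup (qMinus F 3 a b))) = g from rfl, one_mul]
            funext i
            exact CharTwo.add_self_eq_zero _
          · rw [(hpow y _).1, SemidirectProduct.one_right, hy, two_mul, pow_add]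
            show gk ^ o * gk ^ o = 1
            rw [← hgk, pow_orderOf_eq_one, one_mul]
        have hd := orderOf_dvd_of_pow_eq_one hpow2
        obtain ⟨t, ht⟩ := hr _ (pow_orderOf_eq_one y)
        have ho0 : 0 < o := orderOf_pos g
        rw [ht, mul_comm 2 o] at hd
        have ht2 := Nat.le_of_dvd two_pos (Nat.dvd_of_mul_dvd_mul_left ho0 hd)
        have ht1 : t ≠ 1 := fun e => hne (by
          have h1 := pow_orderOf_eq_one y
          rwa [ht, e, mul_one] at h1)
        have ht0 : t ≠ 0 := fun e => by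
          rw [e, mul_zero] at ht
          exact absurd ht (orderOf_pos y).ne'
        rw [ht, show t = 2 by omega, mul_comm]
  refine ⟨Fin (Fintype.card H0), (Fintype.equivFin H0).symm.group, inferInstance, by rwa [Fintype.card_fin], ?_⟩
  letI : Group (Fin (Fintype.card H0)) := (Fintype.equivFin H0).symm.group
  rw [← hrange]
  exact (orderOf_range_congr (Fintype.equivFin H0).symm.mulEquiv).symm

end Cfsg.Agent.EvenSymp
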